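import Cfsg.Agent.H981.M23.HNTwoA
import Cfsg.Agent.H692.Ore.HNE

/-!
# Elements of HN with a power conjugate to `τ` (2A), facts for (M,23) (helper981)

`G = Spor.HN`, `ψ : H0 → G` the centralizer of `ψ τ`.

* `four` : `x ^ 2 ~ ψ τ`: `x ~ ψ gx`, `|C(x)| = 5760` (4B);
* `eight` : `x ^ 4 ~ ψ τ`: `x ~ ψ E`, `|C(x)| = 80` (8A);
* `ne_sixteen` : no `x` with `x ^ 8 ~ ψ τ`;
* `six` : `x` of order 6 with `x ^ 3 ~ ψ τ`: one class, `|C(x)| = 1440` (6A);
* `twelve` : `x` of order 12 with `x ^ 6 ~ ψ τ`: one class, `|C(x)| = 72` (12A);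
* `ne_twentyfour` : `x ^ 12 ~ ψ τ` has order 8.
-/

set_option autoImplicit false
set_option maxRecDepth 100000

namespace Cfsg.Agent.H981.M23.HNTwoB

open Cfsg.Agent.HN.Pres Cfsg.Agent.HN.H0Basic
open Cfsg.Agent.HN.P1408 hiding ψ
open Cfsg.Agent.HN.NormalH (ψ)
open Cfsg.Agent.HN.Syl
open Cfsg.Agent.SporadicA.PermTab
open Lev HNData HNTwoA

/-! ### order 3 in `H0` -/

open Cfsg.Agent.H922.Ore.Gr Cfsg.Agent.H922.Ore.HS Cfsg.Agent.H348.Pw.Gr Cfsg.Agent.HN.HS100 in
theorem small3 : ∀ i, bnd (D i).L ≤ 720 ∨ eqv 100 (powL [(D i).X] 4) [] = true ∨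
    eqv 100 (powL [(D i).X] 5) [] = true := by
  intro i
  fin_cases i <;> decide +kernel

open Cfsg.Agent.H922.Ore.Gr Cfsg.Agent.H922.Ore.HS Cfsg.Agent.H348.Pw.Gr Cfsg.Agent.HN.HS100 in
theorem card_le_three {s : H0} (hs : s ^ 3 = 1) (hs1 : s ≠ 1) :
    Nat.card (Subgroup.centralizer ({s} : Set H0)) ≤ 1440 := by
  classical
  have hfin := finite_H0
  have hne : ∀ t : H0, t = 1 ∨ t = τ → s ≠ t := by
    rintro t (rfl | rfl) rfl
    · exact hs1 rfl
    · rw [show τ ^ 3 = τ * τ ^ 2 from pow_succ' _ _, τ_sq, mul_one] at hs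
      exact τ_ne_one hs
  have hQ : φ s ∈ Q := by
    rw [mem_Q_iff ⟨s, rfl⟩]
    have h1 : (Equiv.Perm.sign (φ s)) ^ 3 = 1 := by rw [← map_pow, ← map_pow, hs, map_one, map_one]
    rcases Int.units_eq_one_or (Equiv.Perm.sign (φ s)) with h | h
    · exact h
    · rw [h] at h1
      exact absurd h1 (by decide)
  obtain ⟨i, x, -, hx, c, hc, he⟩ := Cfsg.Agent.H348.Pw.HS.cov_Q _ hQ
  have h1 := Cfsg.Agent.H692.Ore.HNE.card_cent_le hx hc
  rw [← he] at h1
  have h8 : ∀ n : ℕ, Nat.Coprime 3 n → ¬ (φ s) ^ n = 1 := by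
    intro n hn h
    have h6 : orderOf (φ s) ∣ n := orderOf_dvd_of_pow_eq_one h
    have h7 : orderOf (φ s) ∣ 3 := orderOf_dvd_of_pow_eq_one (by rw [← map_pow, hs, map_one])
    have h9 : orderOf (φ s) = 1 := Nat.eq_one_of_dvd_coprimes hn h7 h6
    rw [orderOf_eq_one_iff, φ_eq_one_iff] at h9
    exact hne s h9 rfl
  have h2 : bnd (D i).L ≤ 720 := by
    rcases small3 i with h | h | h
    · exact h
    · exfalso
      have h4 : x ^ 4 = 1 := Acts.eq (acts_pow hx 4) Acts.one h
      exact h8 4 (by norm_num) (by rw [he, conj_pow, h4, mul_one, mul_inv_cancel])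
    · exfalso
      have h4 : x ^ 5 = 1 := Acts.eq (acts_pow hx 5) Acts.one h
      exact h8 5 (by norm_num) (by rw [he, conj_pow, h4, mul_one, mul_inv_cancel])
  -- the kernel of the map has order two
  let C := Subgroup.centralizer ({s} : Set H0)
  have h9 : Nat.card C ≤ 2 * Nat.card (C.map φ) := by
    have h10 := Subgroup.card_mul_index ((φ.comp C.subtype).ker)
    rw [Subgroup.index_ker] at h10
    have h11 : (φ.comp C.subtype).range = C.map φ := by
      rw [MonoidHom.range_comp, Subgroup.range_subtype]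
    rw [h11] at h10
    have h12 : Nat.card (φ.comp C.subtype).ker ≤ 2 := by
      have h13 : Nat.card (φ.comp C.subtype).ker ≤ Nat.card (({1, τ} : Finset H0) : Set H0) := by
        refine Nat.card_le_card_of_injective (fun y => ⟨((y : C) : H0), ?_⟩) ?_
        · have h14 : φ ((y : C) : H0) = 1 := y.2
          rw [φ_eq_one_iff] at h14
          simpa using h14
        · intro y z hyz
          have h2 := congrArg Subtype.val hyz
          exact Subtype.ext (Subtype.ext h2)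
      refine h13.trans ?_
      rw [Nat.card_coe_set_eq, Set.ncard_coe_finset]
      exact Finset.card_le_two
    calc Nat.card C = Nat.card (φ.comp C.subtype).ker * Nat.card (C.map φ) := h10.symm
      _ ≤ 2 * Nat.card (C.map φ) := Nat.mul_le_mul_right _ h12
  have h15 : C.map φ ≤ Subgroup.centralizer ({φ s} : Set (Equiv.Perm (Fin 100))) ⊓ φ.range := by
    rintro _ ⟨y, hy, rfl⟩
    refine Subgroup.mem_inf.2 ⟨?_, ⟨y, rfl⟩⟩
    rw [Subgroup.mem_centralizer_singleton_iff, ← map_mul, ← map_mul,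
      Subgroup.mem_centralizer_singleton_iff.1 hy]
  have h16 := Nat.card_le_card_of_injective _ (Subgroup.inclusion_injective h15)
  show Nat.card C ≤ 1440
  omega

theorem s_cube : hw [2, 2] ^ 3 = 1 := by
  have h : hw ([2, 2] ++ ([2, 2] ++ [2, 2])) = hw [2, 2] ^ 3 := by
    rw [hw_append, hw_append]; simp only [pow_succ, pow_zero, one_mul, mul_assoc]
  rw [← h, ← hw_nil]; exact hw_eq (by decide +kernel)

theorem s_ne_one : hw [2, 2] ≠ 1 := by
  rw [← hw_nil]
  exact hw_ne rfl rfl (p := 17) (by norm_num) (by decide +kernel)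

theorem card_s : Nat.card (Subgroup.centralizer ({hw [2, 2]} : Set H0)) = 1440 := by
  apply le_antisymm (card_le_three s_cube s_ne_one)
  have h := prod_le chk_cs
  rw [Sub_single] at h
  exact le_trans (by decide +kernel) h

/-- `|C(s)| = 1440` for the elements of order 3 of `H0` -/
theorem card_three {g : H0} (hg : g ^ 3 = 1) (h1 : g ≠ 1) :
    Nat.card (Subgroup.centralizer ({g} : Set H0)) = 1440 := by
  rw [← card_conj (conj_three hg h1), card_s]

/-! ### order 6 -/

theorem six0 {g : H0} (hg : g ^ 3 = τ) (h1 : g ≠ τ) : IsConj (hw [2, 2] * τ) g ∧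
    Nat.card (Subgroup.centralizer ({g} : Set H0)) = 1440 := by
  have h3 : (g * τ) ^ 3 = 1 := by
    rw [(show Commute g τ from τ_comm g).mul_pow, hg, show τ ^ 3 = τ * τ ^ 2 from pow_succ' _ _, τ_sq, mul_one, τ_mul_τ]
  have h4 : g * τ ≠ 1 := by
    intro h
    apply h1
    rw [← τ_inv]
    exact eq_inv_of_mul_eq_one_left h
  have h5 := conj_three h3 h4
  constructor
  · obtain ⟨c, hc⟩ := isConj_iff.1 h5
    rw [isConj_iff]
    refine ⟨c, ?_⟩
    calc c * (hw [2, 2] * τ) * c⁻¹ = c * hw [2, 2] * (τ * c⁻¹) := by group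
      _ = c * hw [2, 2] * (c⁻¹ * τ) := by rw [← τ_comm]
      _ = c * hw [2, 2] * c⁻¹ * τ := by group
      _ = g := by rw [hc, mul_assoc, τ_mul_τ, mul_one]
  · rw [← card_three h3 h4]
    congr 1
    apply congrArg (fun K : Subgroup H0 => ↥K)
    ext v
    rw [Subgroup.mem_centralizer_singleton_iff, Subgroup.mem_centralizer_singleton_iff]
    constructor
    · intro h
      rw [← mul_assoc, h, mul_assoc, τ_comm v, ← mul_assoc, mul_assoc]
    · intro h
      have h6 : v * (g * τ) * τ = g * τ * v * τ := by rw [h]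
      rw [mul_assoc v, mul_assoc g, τ_mul_τ, mul_one, mul_assoc (g * τ), τ_comm v, mul_assoc g, ← mul_assoc τ,
        τ_mul_τ, one_mul] at h6
      exact h6

/-! ### order 12 and 24 -/

theorem chk_cys : chkL [wY, w1] [] cys = true := by decide +kernel

theorem cl1_ok : (cl1.all fun c => okw c && eqw (c ++ wY) (wY ++ c)) = true := by decide +kernel

theorem cl1_nd : ndB (cl1.map fun c => key (c ++ (w1 ++ iw c))) = true := by decide +kernel

theorem w1_ok : okw w1 = true := by decide +kernel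
theorem wY_ok : okw wY = true := by decide +kernel

theorem card_ys : Nat.card ↥(Subgroup.centralizer ({hw wY} : Set H0) ⊓ Subgroup.centralizer ({hw w1} : Set H0)) = 72 := by
  have hfin := finite_H0
  apply le_antisymm
  · have hm : ∀ i : Fin cl1.length, hw (cl1.get i) ∈ Subgroup.centralizer ({hw wY} : Set H0) := by
      intro i
      have h2 := List.all_eq_true.1 cl1_ok _ (List.get_mem cl1 i)
      rw [Bool.and_eq_true] at h2
      have h3 := hw_eq h2.2
      rw [hw_append, hw_append] at h3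
      exact Subgroup.mem_centralizer_singleton_iff.2 h3
    have h2 := card_mul_le (D := Subgroup.centralizer ({hw wY} : Set H0)) (e := hw w1)
      (fun i : Fin cl1.length => ⟨hw (cl1.get i), hm i⟩) (by
      intro i j hij
      have hij' : hw (cl1.get i) * hw w1 * (hw (cl1.get i))⁻¹ = hw (cl1.get j) * hw w1 * (hw (cl1.get j))⁻¹ := hij
      have ok : ∀ i : Fin cl1.length, okw (cl1.get i ++ (w1 ++ iw (cl1.get i))) = true := by
        intro i
        have h2 := List.all_eq_true.1 cl1_ok _ (List.get_mem cl1 i)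
        rw [Bool.and_eq_true] at h2
        exact okw_append h2.1 (okw_append w1_ok (okw_iw h2.1))
      have e : ∀ i : Fin cl1.length, hw (cl1.get i ++ (w1 ++ iw (cl1.get i))) =
          hw (cl1.get i) * hw w1 * (hw (cl1.get i))⁻¹ := by
        intro i
        rw [hw_append, hw_append, hw_iw, mul_assoc]
      rw [← e, ← e] at hij'
      have h3 := key_eq (ok i) (ok j) hij'
      have hinj := List.nodup_iff_injective_get.1 (ndB_spec cl1_nd)
      have hlen : (cl1.map fun c => key (c ++ (w1 ++ iw c))).length = cl1.length := List.length_map _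
      have h11 : (Fin.cast hlen.symm i) = (Fin.cast hlen.symm j) := by
        apply hinj
        simpa using h3
      simpa [Fin.ext_iff] using h11)
    rw [card_Y] at h2
    have h3 : cl1.length = 80 := by decide +kernel
    rw [h3] at h2
    omega
  · have h := prod_le chk_cys
    rw [Sub_pair] at h
    exact le_trans (by decide +kernel) h

/-- the subgroup of order 9 of the centralizer of `y` -/
theorem w12_cube : hw w1 ^ 3 = 1 ∧ hw w2 ^ 3 = 1 := by
  have h : ∀ w : List ℕ, hw (w ++ (w ++ w)) = hw w ^ 3 := by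
    intro w
    rw [hw_append, hw_append]; simp only [pow_succ, pow_zero, one_mul, mul_assoc]
  constructor
  · rw [← h, ← hw_nil]; exact hw_eq (by decide +kernel)
  · rw [← h, ← hw_nil]; exact hw_eq (by decide +kernel)

/-- the centralizer of `y` -/
abbrev CY : Subgroup H0 := Subgroup.centralizer ({hw wY} : Set H0)

theorem mem_CY {w : List ℕ} (h : eqw (w ++ wY) (wY ++ w) = true) : hw w ∈ CY := by
  have h3 := hw_eq h
  rw [hw_append, hw_append] at h3
  exact Subgroup.mem_centralizer_singleton_iff.2 h3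

/-- words `w1 ^ i w2 ^ j` -/
def wij (e : ℕ) : List ℕ := (List.replicate (e / 3) w1).flatten ++ (List.replicate (e % 3) w2).flatten

theorem hw_rep (w : List ℕ) (n : ℕ) : hw (List.replicate n w).flatten = hw w ^ n := by
  induction n with
  | zero => rw [List.replicate_zero, List.flatten_nil, hw_nil, pow_zero]
  | succ n ih => rw [List.replicate_succ, List.flatten_cons, hw_append, ih, pow_succ']

theorem hw_wij (e : ℕ) : hw (wij e) = hw w1 ^ (e / 3) * hw w2 ^ (e % 3) := by
  rw [wij, hw_append, hw_rep, hw_rep]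

theorem w12_comm : hw w2 * hw w1 = hw w1 * hw w2 := by
  rw [← hw_append, ← hw_append]
  exact hw_eq (by decide +kernel)

theorem w1_mem : hw w1 ∈ CY := mem_CY (by decide +kernel)
theorem w2_mem : hw w2 ∈ CY := mem_CY (by decide +kernel)

theorem cj12_ok : ∀ e < 8, eqw (wij (e + 1) ++ cj12.getD e []) (cj12.getD e [] ++ w1) = true ∧
    eqw (cj12.getD e [] ++ wY) (wY ++ cj12.getD e []) = true := by
  decide +kernel

theorem wij_nd : ndB ((List.range 9).map fun e => key (wij e)) = true := by decide +kernel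

theorem wij_okw : ((List.range 9).all fun e => okw (wij e)) = true := by decide +kernel

/-- the Sylow 3-subgroup of `C(y)` -/
def S9 : Subgroup CY where
  carrier := {g | ∃ i j : ℕ, (g : H0) = hw w1 ^ i * hw w2 ^ j}
  one_mem' := ⟨0, 0, by rw [pow_zero, pow_zero, mul_one]; rfl⟩
  mul_mem' := by
    rintro a b ⟨i, j, h⟩ ⟨k, l, h'⟩
    refine ⟨i + k, j + l, ?_⟩
    have h2 : hw w2 ^ j * hw w1 ^ k = hw w1 ^ k * hw w2 ^ j :=
      (Commute.pow_pow (show Commute (hw w2) (hw w1) from w12_comm) j k).eq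
    rw [Subgroup.coe_mul, h, h', pow_add, pow_add]
    calc hw w1 ^ i * hw w2 ^ j * (hw w1 ^ k * hw w2 ^ l) = hw w1 ^ i * (hw w2 ^ j * hw w1 ^ k) * hw w2 ^ l := by
          simp only [mul_assoc]
      _ = _ := by rw [h2]; simp only [mul_assoc]
  inv_mem' := by
    rintro a ⟨i, j, h⟩
    refine ⟨2 * i, 2 * j, ?_⟩
    have h1 : ∀ (u : H0), u ^ 3 = 1 → ∀ i : ℕ, (u ^ i)⁻¹ = u ^ (2 * i) := by
      intro u hu i
      rw [inv_eq_iff_mul_eq_one, ← pow_add, show i + 2 * i = 3 * i by ring, pow_mul, hu, one_pow]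
    have h2 : hw w2 ^ (2 * j) * hw w1 ^ (2 * i) = hw w1 ^ (2 * i) * hw w2 ^ (2 * j) :=
      (Commute.pow_pow (show Commute (hw w2) (hw w1) from w12_comm) _ _).eq
    rw [Subgroup.coe_inv, h, mul_inv_rev, h1 _ w12_cube.1, h1 _ w12_cube.2, h2]

theorem mem_S9 {g : CY} (hg : g ∈ S9) : ∃ e < 9, (g : H0) = hw (wij e) := by
  obtain ⟨i, j, h⟩ := hg
  refine ⟨3 * (i % 3) + j % 3, by omega, ?_⟩
  have hm : ∀ (u : H0), u ^ 3 = 1 → ∀ i : ℕ, u ^ i = u ^ (i % 3) := by
    intro u hu i
    conv_lhs => rw [← Nat.div_add_mod i 3, pow_add, pow_mul, hu, one_pow, one_mul]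
  rw [h, hw_wij, hm _ w12_cube.1 i, hm _ w12_cube.2 j]
  congr 2
  · omega
  · omega

theorem card_S9 : Nat.card S9 = 9 := by
  have hfin := finite_H0
  apply le_antisymm
  · have h : ∀ g : S9, ∃ e : Fin 9, ((g : CY) : H0) = hw (wij e) := by
      intro g
      obtain ⟨e, he, h⟩ := mem_S9 g.2
      exact ⟨⟨e, he⟩, h⟩
    choose f hf using h
    have h2 := Nat.card_le_card_of_injective f (by
      intro a b hab
      apply Subtype.ext
      apply Subtype.ext
      rw [hf, hf, hab])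
    rw [Nat.card_eq_fintype_card (α := Fin 9), Fintype.card_fin] at h2
    exact h2
  · have h1 : ∀ e : Fin 9, hw (wij e) ∈ CY := by
      intro e
      rw [hw_wij]
      exact mul_mem (pow_mem w1_mem _) (pow_mem w2_mem _)
    have h2 := Nat.card_le_card_of_injective
      (fun e : Fin 9 => (⟨⟨hw (wij e), h1 e⟩, ⟨(e : ℕ) / 3, (e : ℕ) % 3, hw_wij e⟩⟩ : S9)) (by
      intro i j hij
      have h3 : hw (wij i) = hw (wij j) := congrArg (fun z : S9 => ((z : CY) : H0)) hij
      have ok : ∀ i : Fin 9, okw (wij i) = true := fun i =>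
        List.all_eq_true.1 wij_okw _ (List.mem_range.2 i.2)
      have h4 := key_eq (ok i) (ok j) h3
      have hnd := ndB_spec wij_nd
      exact Fin.ext (List.inj_on_of_nodup_map hnd (List.mem_range.2 i.2) (List.mem_range.2 j.2) h4))
    rw [Nat.card_eq_fintype_card (α := Fin 9), Fintype.card_fin] at h2
    exact h2

theorem factorization_CY : (Nat.card CY).factorization 3 = 2 := by
  rw [card_Y, show (5760 : ℕ) = 3 ^ 2 * 640 by norm_num]
  have h2 : (640 : ℕ).factorization 3 = 0 := Nat.factorization_eq_zero_of_not_dvd (by norm_num)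
  rw [Nat.factorization_mul (by norm_num) (by norm_num), Nat.Prime.factorization_pow Nat.prime_three,
    Finsupp.add_apply, h2, Finsupp.single_eq_same]

/-- elements of order 3 of `C(y)` -/
theorem conj_CY {s : H0} (hs : s ^ 3 = 1) (h1 : s ≠ 1) (hc : s * hw wY = hw wY * s) :
    ∃ c : H0, c * hw wY = hw wY * c ∧ c * hw w1 * c⁻¹ = s := by
  have hfin := finite_H0
  let s' : CY := ⟨s, Subgroup.mem_centralizer_singleton_iff.2 hc⟩
  have hs' : s' ^ 3 = 1 := Subtype.ext hs
  have h1' : s' ≠ 1 := fun h => h1 (congrArg Subtype.val h)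
  obtain ⟨c, hcc⟩ := exists_conj_nine card_S9 factorization_CY hs' h1'
  obtain ⟨e, he, h5⟩ := mem_S9 hcc
  have h5' : (c : H0)⁻¹ * s * (c : H0) = hw (wij e) := h5
  have h0 : e ≠ 0 := by
    rintro rfl
    rw [hw_wij, show 0 / 3 = 0 from rfl, show 0 % 3 = 0 from rfl, pow_zero, pow_zero, mul_one] at h5'
    apply h1
    have : s = (c : H0) * ((c : H0)⁻¹ * s * c) * (c : H0)⁻¹ := by group
    rw [this, h5', mul_one, mul_inv_cancel]
  obtain ⟨e, rfl⟩ : ∃ e', e = e' + 1 := ⟨e - 1, by omega⟩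
  obtain ⟨h6, h7⟩ := cj12_ok e (by omega)
  have h6' := hw_eq h6
  have h7' := hw_eq h7
  rw [hw_append, hw_append] at h6' h7'
  refine ⟨c * hw (cj12.getD e []), ?_, ?_⟩
  · have h8 := Subgroup.mem_centralizer_singleton_iff.1 c.2
    rw [mul_assoc, h7', ← mul_assoc, h8, mul_assoc]
  · rw [← h5'] at h6'
    rw [mul_inv_rev]
    calc (c : H0) * hw (cj12.getD e []) * hw w1 * ((hw (cj12.getD e []))⁻¹ * (c : H0)⁻¹)
        = (c : H0) * (hw (cj12.getD e []) * hw w1) * (hw (cj12.getD e []))⁻¹ * (c : H0)⁻¹ := by group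
      _ = s := by rw [← h6']; group

/-- **elements of order 12 above `τ`** in `H0` -/
theorem twelve0 {g : H0} (hg : g ^ 6 = τ) (h4 : g ^ 4 ≠ 1) : IsConj (hw w1 * hw wY) g ∧
    Nat.card (Subgroup.centralizer ({g} : Set H0)) = 72 := by
  have hfin := finite_H0
  have h12 : g ^ 12 = 1 := by rw [show 12 = 6 * 2 from rfl, pow_mul, hg, τ_sq]
  -- the parts of order 4 and 3
  set x := g ^ 9 with hx
  set t := g ^ 4 with ht
  have hxt : t * x = g := by
    rw [hx, ht, ← pow_add, show 4 + 9 = 12 + 1 from rfl, pow_succ, h12, one_mul]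
  have hx2 : x ^ 2 = τ := by
    rw [hx, ← pow_mul, show 9 * 2 = 12 + 6 from rfl, pow_add, h12, one_mul, hg]
  have ht3 : t ^ 3 = 1 := by rw [ht, ← pow_mul]; exact h12
  have hcomm : t * x = x * t := by rw [hx, ht, ← pow_add, ← pow_add]
  obtain ⟨d, hd⟩ := isConj_iff.1 ((isConj_of_sq_eq_τ Y_sq).symm.trans (isConj_of_sq_eq_τ hx2))
  -- `d y d⁻¹ = x`
  have hs3 : (d⁻¹ * t * d) ^ 3 = 1 := by
    have : d⁻¹ * t * d = d⁻¹ * t * (d⁻¹)⁻¹ := by rw [inv_inv]
    rw [this, conj_pow, ht3]; group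
  have hs1 : d⁻¹ * t * d ≠ 1 := by
    intro h
    apply h4
    have : t = d * (d⁻¹ * t * d) * d⁻¹ := by group
    rw [this, h]; group
  have hsc : d⁻¹ * t * d * hw wY = hw wY * (d⁻¹ * t * d) := by
    have e1 : hw wY = d⁻¹ * x * d := by rw [← hd]; group
    rw [e1]
    calc d⁻¹ * t * d * (d⁻¹ * x * d) = d⁻¹ * (t * x) * d := by group
      _ = d⁻¹ * (x * t) * d := by rw [hcomm]
      _ = _ := by group
  obtain ⟨c, hc1, hc2⟩ := conj_CY hs3 hs1 hsc
  have hcy : c * hw wY * c⁻¹ = hw wY := by rw [hc1]; group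
  have hconj : (d * c) * (hw w1 * hw wY) * (d * c)⁻¹ = g := by
    have e1 : (d * c) * hw w1 * (d * c)⁻¹ = t := by
      calc (d * c) * hw w1 * (d * c)⁻¹ = d * (c * hw w1 * c⁻¹) * d⁻¹ := by group
        _ = t := by rw [hc2]; group
    have e2 : (d * c) * hw wY * (d * c)⁻¹ = x := by
      calc (d * c) * hw wY * (d * c)⁻¹ = d * (c * hw wY * c⁻¹) * d⁻¹ := by group
        _ = x := by rw [hcy, hd]
    calc (d * c) * (hw w1 * hw wY) * (d * c)⁻¹ = ((d * c) * hw w1 * (d * c)⁻¹) * ((d * c) * hw wY * (d * c)⁻¹) := by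
          group
      _ = g := by rw [e1, e2, hxt]
  have hI : IsConj (hw w1 * hw wY) g := isConj_iff.2 ⟨d * c, hconj⟩
  refine ⟨hI, ?_⟩
  rw [← card_conj hI, ← card_ys]
  congr 1
  apply congrArg (fun K : Subgroup H0 => ↥K)
  ext v
  rw [Subgroup.mem_inf, Subgroup.mem_centralizer_singleton_iff, Subgroup.mem_centralizer_singleton_iff,
    Subgroup.mem_centralizer_singleton_iff]
  have hYs : hw w1 * hw wY = hw wY * hw w1 := Subgroup.mem_centralizer_singleton_iff.1 w1_mem
  have hY4 : hw wY ^ 4 = 1 := by rw [show 4 = 2 * 2 from rfl, pow_mul, Y_sq, τ_sq]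
  constructor
  · intro h
    have hc : Commute v (hw w1 * hw wY) := h
    have hcm : Commute (hw w1) (hw wY) := hYs
    have e9 : (hw w1 * hw wY) ^ 9 = hw wY := by
      rw [hcm.mul_pow, show 9 = 3 * 3 from rfl, pow_mul (hw w1), w12_cube.1, one_pow, one_mul,
        show 3 * 3 = 4 * 2 + 1 from rfl, pow_succ, pow_mul, hY4, one_pow, one_mul]
    have e4 : (hw w1 * hw wY) ^ 4 = hw w1 := by
      rw [hcm.mul_pow, hY4, mul_one, show 4 = 3 + 1 from rfl, pow_succ, w12_cube.1, one_mul]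
    constructor
    · have := hc.pow_right 9
      rw [e9] at this
      exact this
    · have := hc.pow_right 4
      rw [e4] at this
      exact this
  · rintro ⟨h1, h2⟩
    exact (Commute.mul_right h2 h1 : Commute v _)

/-- no element of order 24 above `τ` -/
theorem ne_twentyfour0 {g : H0} (hg : g ^ 12 = τ) : g ^ 8 = 1 := by
  have h24 : (g ^ 8) ^ 3 = 1 := by rw [← pow_mul, show 8 * 3 = 12 * 2 from rfl, pow_mul, hg, τ_sq]
  exact Cfsg.Agent.HN.FactB.B1 (v := g ^ 3) (by rw [← pow_mul]; exact hg) h24 (by rw [← pow_add, ← pow_add])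

/-! ### the Harada-Norton group -/

/-- transport to `H0` -/
theorem transfer {x : Cfsg.Spor.HN} {k : ℕ} (h : IsConj (ψ τ) (x ^ k)) : ∃ (c : Cfsg.Spor.HN) (y : H0),
    c * x * c⁻¹ = ψ y ∧ y ^ k = τ ∧ orderOf y = orderOf x ∧
      Nat.card (Subgroup.centralizer ({x} : Set Cfsg.Spor.HN)) = Nat.card (Subgroup.centralizer ({y} : Set H0)) := by
  obtain ⟨c, y, hc, hy⟩ := Cfsg.Agent.H513.HNTau.conj_of_tau h (by rw [← pow_succ, ← pow_succ'])
  refine ⟨c, y, hy, ?_, Cfsg.Agent.H513.HNTau.order_of_conj hy, ?_⟩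
  · apply Cfsg.Agent.KFacts.HN.emb.inj
    rw [map_pow, ← hy, conj_pow, hc]
  · rw [← Cfsg.Agent.H513.HNTau.card_inf hc hy]
    have : Subgroup.centralizer ({x} : Set Cfsg.Spor.HN) ⊓ Subgroup.centralizer ({x ^ k} : Set Cfsg.Spor.HN) =
        Subgroup.centralizer ({x} : Set Cfsg.Spor.HN) := by
      refine inf_eq_left.2 fun v hv => Subgroup.mem_centralizer_singleton_iff.2 ?_
      exact ((Commute.pow_right (Subgroup.mem_centralizer_singleton_iff.1 hv) _)).eq
    rw [this]

theorem conj_back {x c : Cfsg.Spor.HN} {y z : H0} (h : c * x * c⁻¹ = ψ y) (hz : IsConj z y) : IsConj (ψ z) x := by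
  have h1 : IsConj (ψ z) (ψ y) := by
    obtain ⟨d, rfl⟩ := isConj_iff.1 hz
    exact isConj_iff.2 ⟨ψ d, by rw [map_mul, map_mul, map_inv]⟩
  exact h1.trans (by rw [← h]; exact (isConj_iff.2 ⟨c, rfl⟩ : IsConj x (c * x * c⁻¹)).symm)

/-- **4B** -/
theorem four {x : Cfsg.Spor.HN} (h : IsConj (ψ τ) (x ^ 2)) : IsConj (ψ gx) x ∧
    Nat.card (Subgroup.centralizer ({x} : Set Cfsg.Spor.HN)) = 5760 := by
  obtain ⟨c, y, hy, hk, -, hcard⟩ := transfer h
  exact ⟨conj_back hy (isConj_of_sq_eq_τ hk), hcard.trans (card_of_sq hk)⟩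

/-- **8A** -/
theorem eight {x : Cfsg.Spor.HN} (h : IsConj (ψ τ) (x ^ 4)) : IsConj (ψ E) x ∧
    Nat.card (Subgroup.centralizer ({x} : Set Cfsg.Spor.HN)) = 80 := by
  obtain ⟨c, y, hy, hk, -, hcard⟩ := transfer h
  exact ⟨conj_back hy (conj_E hk), hcard.trans (card_of_four hk)⟩

/-- no element of order 16 above 2A -/
theorem not_sixteen (x : Cfsg.Spor.HN) : ¬ IsConj (ψ τ) (x ^ 8) := by
  intro h
  obtain ⟨c, y, hy, hk, -⟩ := transfer h
  exact ne_sixteen y hk

/-- **6A** -/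
theorem six {x : Cfsg.Spor.HN} (h : IsConj (ψ τ) (x ^ 3)) (ho : orderOf x = 6) : IsConj (ψ (hw [2, 2] * τ)) x ∧
    Nat.card (Subgroup.centralizer ({x} : Set Cfsg.Spor.HN)) = 1440 := by
  obtain ⟨c, y, hy, hk, ho', hcard⟩ := transfer h
  have h1 : y ≠ τ := by
    rintro rfl
    have h2 : orderOf τ ∣ 2 := orderOf_dvd_of_pow_eq_one τ_sq
    rw [ho', ho] at h2
    exact absurd h2 (by norm_num)
  obtain ⟨h2, h3⟩ := six0 hk h1
  exact ⟨conj_back hy h2, hcard.trans h3⟩

/-- **12A** -/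
theorem twelve {x : Cfsg.Spor.HN} (h : IsConj (ψ τ) (x ^ 6)) (ho : orderOf x = 12) :
    IsConj (ψ (hw w1 * hw wY)) x ∧ Nat.card (Subgroup.centralizer ({x} : Set Cfsg.Spor.HN)) = 72 := by
  obtain ⟨c, y, hy, hk, ho', hcard⟩ := transfer h
  have h1 : y ^ 4 ≠ 1 := by
    intro h2
    have h3 := orderOf_dvd_of_pow_eq_one h2
    rw [ho', ho] at h3
    exact absurd h3 (by norm_num)
  obtain ⟨h2, h3⟩ := twelve0 hk h1
  exact ⟨conj_back hy h2, hcard.trans h3⟩

/-- no element of order 24 above 2A -/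
theorem not_twentyfour {x : Cfsg.Spor.HN} (h : IsConj (ψ τ) (x ^ 12)) : orderOf x = 8 := by
  obtain ⟨c, y, hy, hk, ho', -⟩ := transfer h
  have h8 := ne_twentyfour0 hk
  rw [← ho']
  have h4 : y ^ 4 ≠ 1 := by
    intro h4
    rw [show 12 = 4 * 3 from rfl, pow_mul, h4, one_pow] at hk
    exact τ_ne_one hk.symm
  exact orderOf_eq_prime_pow (p := 2) (n := 2) h4 h8

/-- elements of order 3 commuting with a 2A-involution: one class -/
theorem three {x : Cfsg.Spor.HN} {t : Cfsg.Spor.HN} (ht : IsConj (ψ τ) t) (hx : orderOf x = 3) (hc : t * x = x * t) :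
    IsConj (ψ (hw [2, 2])) x := by
  obtain ⟨c, y, hc', hy⟩ := Cfsg.Agent.H513.HNTau.conj_of_tau ht hc
  have ho := Cfsg.Agent.H513.HNTau.order_of_conj hy
  refine conj_back hy (conj_three ?_ ?_)
  · rw [← hx, ← ho, pow_orderOf_eq_one]
  · rintro rfl
    rw [orderOf_one, hx] at ho
    exact absurd ho (by norm_num)

end Cfsg.Agent.H981.M23.HNTwoB
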