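import Cfsg.Agent.H981.M23.Lev

/-!
# Data for the centralizers in `H0 = 2.HS.2` (generated; helper981)
-/

set_option autoImplicit false
set_option maxRecDepth 100000

namespace Cfsg.Agent.H981.M23.HNData

open Cfsg.Agent.HN.Syl (CT)

/-- word of an element of order 8 with fourth power `τ` -/
def wE : List ℕ := [0, 2, 0, 2, 4]

/-- its square -/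
def wY : List ℕ := [0, 2, 0, 2, 4, 0, 2, 0, 2, 4]

/-- conjugates `e τ` to `e` -/
def w5 : List ℕ := [4, 2, 4, 3, 4, 3, 3, 4, 1, 4, 3, 3, 4, 2, 4, 1, 3, 3, 4, 2]

/-- subtree -/
def T0000 : CT :=
  .b (.b (.b (.b (.b (.b (.n 0) (.n 0)) (.b (.n 0) (.n 0))) (.b (.b (.n 0) (.n 0)) (.b (.n 0) (.n 0)))) (.b (.b (.b
(.n 0) (.n 0)) (.b (.n 0) (.n 0))) (.b (.b (.n 0) (.n 0)) (.b (.n 0) (.n 0))))) (.b (.b (.b (.b (.n 0) (.n 0)) (.b (.n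
0) (.n 0))) (.b (.b (.n 0) (.n 0)) (.b (.n 0) (.n 0)))) (.b (.b (.b (.n 0) (.n 0)) (.b (.n 0) (.n 0))) (.b (.b (.n 0)
(.n 0)) (.b (.n 0) (.n 0)))))) (.b (.b (.b (.b (.b (.n 0) (.n 0)) (.b (.n 0) (.n 0))) (.b (.b (.n 0) (.n 0)) (.b (.n
0) (.n 0)))) (.b (.b (.b (.n 0) (.n 0)) (.b (.n 0) (.n 0))) (.b (.b (.n 0) (.n 0)) (.b (.n 0) (.n 0))))) (.b (.b (.b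
(.b (.n 0) (.n 0)) (.b (.n 0) (.n 0))) (.b (.b (.n 0) (.n 0)) (.b (.n 0) (.n 0)))) (.b (.b (.b (.n 0) (.n 0)) (.b (.n
0) (.n 0))) (.b (.b (.n 0) (.n 0)) (.b (.n 0) (.n 0))))))

/-- subtree -/
def T0001 : CT :=
  .b (.b (.b (.b (.b (.b (.n 0) (.n 0)) (.b (.n 0) (.n 0))) (.b (.b (.n 0) (.n 0)) (.b (.n 0) (.n 0)))) (.b (.b (.b
(.n 0) (.n 0)) (.b (.n 0) (.n 0))) (.b (.b (.n 0) (.n 0)) (.b (.n 0) (.n 0))))) (.b (.b (.b (.b (.n 0) (.n 0)) (.b (.n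
0) (.n 0))) (.b (.b (.n 0) (.n 0)) (.b (.n 0) (.n 0)))) (.b (.b (.b (.n 0) (.n 0)) (.b (.n 0) (.n 0))) (.b (.b (.n 0)
(.n 0)) (.b (.n 0) (.n 0)))))) (.b (.b (.b (.b (.b (.n 3) (.n 3)) (.b (.n 3) (.n 3))) (.b (.b (.n 3) (.n 3)) (.b (.n
3) (.n 3)))) (.b (.b (.b (.n 3) (.n 3)) (.b (.n 3) (.n 3))) (.b (.b (.n 3) (.n 3)) (.b (.n 3) (.n 3))))) (.b (.b (.b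
(.b (.n 3) (.n 3)) (.b (.n 3) (.n 3))) (.b (.b (.n 3) (.n 3)) (.b (.n 3) (.n 3)))) (.b (.b (.b (.n 3) (.n 3)) (.b (.n
3) (.n 3))) (.b (.b (.n 3) (.n 3)) (.b (.n 3) (.n 3))))))

/-- subtree -/
def T000 : CT := .b T0000 T0001

/-- subtree -/
def T0010 : CT :=
  .b (.b (.b (.b (.b (.b (.n 0) (.n 0)) (.b (.n 0) (.n 0))) (.b (.b (.n 0) (.n 0)) (.b (.n 0) (.n 0)))) (.b (.b (.b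
(.n 0) (.n 0)) (.b (.n 0) (.n 0))) (.b (.b (.n 0) (.n 0)) (.b (.n 0) (.n 0))))) (.b (.b (.b (.b (.n 0) (.n 0)) (.b (.n
0) (.n 0))) (.b (.b (.n 0) (.n 0)) (.b (.n 0) (.n 0)))) (.b (.b (.b (.n 0) (.n 0)) (.b (.n 0) (.n 0))) (.b (.b (.n 0)
(.n 0)) (.b (.n 0) (.n 0)))))) (.b (.b (.b (.b (.b (.n 3) (.n 3)) (.b (.n 3) (.n 3))) (.b (.b (.n 3) (.n 3)) (.b (.n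
3) (.n 3)))) (.b (.b (.b (.n 3) (.n 3)) (.b (.n 3) (.n 3))) (.b (.b (.n 3) (.n 3)) (.b (.n 3) (.n 3))))) (.b (.b (.b
(.b (.n 3) (.n 3)) (.b (.n 3) (.n 3))) (.b (.b (.n 3) (.n 3)) (.b (.n 3) (.n 3)))) (.b (.b (.b (.n 3) (.n 3)) (.b (.n
3) (.n 3))) (.b (.b (.n 3) (.n 3)) (.b (.n 3) (.n 3))))))

/-- subtree -/
def T0011 : CT :=
  .b (.b (.b (.b (.b (.b (.n 0) (.n 0)) (.b (.n 0) (.n 0))) (.b (.b (.n 0) (.n 0)) (.b (.n 0) (.n 0)))) (.b (.b (.b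
(.n 0) (.n 0)) (.b (.n 0) (.n 0))) (.b (.b (.n 0) (.n 0)) (.b (.n 0) (.n 0))))) (.b (.b (.b (.b (.n 0) (.n 0)) (.b (.n
0) (.n 0))) (.b (.b (.n 0) (.n 0)) (.b (.n 0) (.n 0)))) (.b (.b (.b (.n 0) (.n 0)) (.b (.n 0) (.n 0))) (.b (.b (.n 0)
(.n 0)) (.b (.n 0) (.n 0)))))) (.b (.b (.b (.b (.b (.n 0) (.n 0)) (.b (.n 0) (.n 0))) (.b (.b (.n 0) (.n 0)) (.b (.n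
0) (.n 0)))) (.b (.b (.b (.n 0) (.n 0)) (.b (.n 0) (.n 0))) (.b (.b (.n 0) (.n 0)) (.b (.n 0) (.n 0))))) (.b (.b (.b
(.b (.n 0) (.n 0)) (.b (.n 0) (.n 0))) (.b (.b (.n 0) (.n 0)) (.b (.n 0) (.n 0)))) (.b (.b (.b (.n 0) (.n 0)) (.b (.n
0) (.n 0))) (.b (.b (.n 0) (.n 0)) (.b (.n 0) (.n 0))))))

/-- subtree -/
def T001 : CT := .b T0010 T0011

/-- subtree -/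
def T00 : CT := .b T000 T001

/-- subtree -/
def T0100 : CT :=
  .b (.b (.b (.b (.b (.b (.n 0) (.n 0)) (.b (.n 0) (.n 0))) (.b (.b (.n 0) (.n 0)) (.b (.n 0) (.n 0)))) (.b (.b (.b
(.n 0) (.n 0)) (.b (.n 0) (.n 0))) (.b (.b (.n 0) (.n 0)) (.b (.n 0) (.n 0))))) (.b (.b (.b (.b (.n 0) (.n 0)) (.b (.n
0) (.n 0))) (.b (.b (.n 0) (.n 0)) (.b (.n 0) (.n 0)))) (.b (.b (.b (.n 0) (.n 0)) (.b (.n 0) (.n 0))) (.b (.b (.n 0)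
(.n 0)) (.b (.n 0) (.n 0)))))) (.b (.b (.b (.b (.b (.n 0) (.n 0)) (.b (.n 0) (.n 0))) (.b (.b (.n 0) (.n 0)) (.b (.n
0) (.n 0)))) (.b (.b (.b (.n 0) (.n 0)) (.b (.n 0) (.n 0))) (.b (.b (.n 0) (.n 0)) (.b (.n 0) (.n 0))))) (.b (.b (.b
(.b (.n 0) (.n 0)) (.b (.n 0) (.n 0))) (.b (.b (.n 0) (.n 0)) (.b (.n 0) (.n 0)))) (.b (.b (.b (.n 0) (.n 0)) (.b (.n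
0) (.n 0))) (.b (.b (.n 0) (.n 0)) (.b (.n 0) (.n 0))))))

/-- subtree -/
def T0101 : CT :=
  .b (.b (.b (.b (.b (.b (.n 0) (.n 0)) (.b (.n 0) (.n 0))) (.b (.b (.n 0) (.n 0)) (.b (.n 0) (.n 0)))) (.b (.b (.b
(.n 0) (.n 0)) (.b (.n 0) (.n 0))) (.b (.b (.n 0) (.n 0)) (.b (.n 0) (.n 0))))) (.b (.b (.b (.b (.n 0) (.n 0)) (.b (.n
0) (.n 0))) (.b (.b (.n 0) (.n 0)) (.b (.n 0) (.n 0)))) (.b (.b (.b (.n 0) (.n 0)) (.b (.n 0) (.n 0))) (.b (.b (.n 0)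
(.n 0)) (.b (.n 0) (.n 0)))))) (.b (.b (.b (.b (.b (.n 0) (.n 0)) (.b (.n 0) (.n 0))) (.b (.b (.n 0) (.n 0)) (.b (.n
0) (.n 0)))) (.b (.b (.b (.n 0) (.n 0)) (.b (.n 0) (.n 0))) (.b (.b (.n 0) (.n 0)) (.b (.n 0) (.n 0))))) (.b (.b (.b
(.b (.n 0) (.n 0)) (.b (.n 0) (.n 0))) (.b (.b (.n 0) (.n 0)) (.b (.n 0) (.n 0)))) (.b (.b (.b (.n 0) (.n 0)) (.b (.n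
0) (.n 0))) (.b (.b (.n 0) (.n 0)) (.b (.n 0) (.n 0))))))

/-- subtree -/
def T010 : CT := .b T0100 T0101

/-- subtree -/
def T0110 : CT :=
  .b (.b (.b (.b (.b (.b (.n 0) (.n 0)) (.b (.n 0) (.n 0))) (.b (.b (.n 0) (.n 0)) (.b (.n 0) (.n 0)))) (.b (.b (.b
(.n 0) (.n 0)) (.b (.n 0) (.n 0))) (.b (.b (.n 0) (.n 0)) (.b (.n 0) (.n 0))))) (.b (.b (.b (.b (.n 0) (.n 0)) (.b (.n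
0) (.n 0))) (.b (.b (.n 0) (.n 0)) (.b (.n 0) (.n 0)))) (.b (.b (.b (.n 0) (.n 0)) (.b (.n 0) (.n 0))) (.b (.b (.n 0)
(.n 0)) (.b (.n 0) (.n 0)))))) (.b (.b (.b (.b (.b (.n 0) (.n 0)) (.b (.n 0) (.n 0))) (.b (.b (.n 0) (.n 0)) (.b (.n
0) (.n 0)))) (.b (.b (.b (.n 0) (.n 0)) (.b (.n 0) (.n 0))) (.b (.b (.n 0) (.n 0)) (.b (.n 0) (.n 0))))) (.b (.b (.b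
(.b (.n 0) (.n 0)) (.b (.n 0) (.n 0))) (.b (.b (.n 0) (.n 0)) (.b (.n 0) (.n 0)))) (.b (.b (.b (.n 0) (.n 0)) (.b (.n
0) (.n 0))) (.b (.b (.n 0) (.n 0)) (.b (.n 0) (.n 0))))))

/-- subtree -/
def T0111 : CT :=
  .b (.b (.b (.b (.b (.b (.n 0) (.n 0)) (.b (.n 0) (.n 0))) (.b (.b (.n 0) (.n 0)) (.b (.n 0) (.n 0)))) (.b (.b (.b
(.n 0) (.n 0)) (.b (.n 0) (.n 0))) (.b (.b (.n 0) (.n 0)) (.b (.n 0) (.n 0))))) (.b (.b (.b (.b (.n 0) (.n 0)) (.b (.n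
0) (.n 0))) (.b (.b (.n 0) (.n 0)) (.b (.n 0) (.n 0)))) (.b (.b (.b (.n 0) (.n 0)) (.b (.n 0) (.n 0))) (.b (.b (.n 0)
(.n 0)) (.b (.n 0) (.n 0)))))) (.b (.b (.b (.b (.b (.n 0) (.n 0)) (.b (.n 0) (.n 0))) (.b (.b (.n 0) (.n 0)) (.b (.n
0) (.n 0)))) (.b (.b (.b (.n 0) (.n 0)) (.b (.n 0) (.n 0))) (.b (.b (.n 0) (.n 0)) (.b (.n 0) (.n 0))))) (.b (.b (.b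
(.b (.n 0) (.n 0)) (.b (.n 0) (.n 0))) (.b (.b (.n 0) (.n 0)) (.b (.n 0) (.n 0)))) (.b (.b (.b (.n 0) (.n 0)) (.b (.n
0) (.n 0))) (.b (.b (.n 0) (.n 0)) (.b (.n 0) (.n 0))))))

/-- subtree -/
def T011 : CT := .b T0110 T0111

/-- subtree -/
def T01 : CT := .b T010 T011

/-- subtree -/
def T0 : CT := .b T00 T01

/-- subtree -/
def T1000 : CT :=
  .b (.b (.b (.b (.b (.b (.n 0) (.n 0)) (.b (.n 0) (.n 0))) (.b (.b (.n 0) (.n 0)) (.b (.n 0) (.n 0)))) (.b (.b (.b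
(.n 3) (.n 3)) (.b (.n 3) (.n 3))) (.b (.b (.n 3) (.n 3)) (.b (.n 3) (.n 3))))) (.b (.b (.b (.b (.n 0) (.n 0)) (.b (.n
0) (.n 0))) (.b (.b (.n 0) (.n 0)) (.b (.n 0) (.n 0)))) (.b (.b (.b (.n 3) (.n 3)) (.b (.n 3) (.n 3))) (.b (.b (.n 3)
(.n 3)) (.b (.n 3) (.n 3)))))) (.b (.b (.b (.b (.b (.n 0) (.n 0)) (.b (.n 0) (.n 0))) (.b (.b (.n 0) (.n 0)) (.b (.n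
0) (.n 0)))) (.b (.b (.b (.n 3) (.n 3)) (.b (.n 3) (.n 3))) (.b (.b (.n 3) (.n 3)) (.b (.n 3) (.n 3))))) (.b (.b (.b
(.b (.n 0) (.n 0)) (.b (.n 0) (.n 0))) (.b (.b (.n 0) (.n 0)) (.b (.n 0) (.n 0)))) (.b (.b (.b (.n 3) (.n 3)) (.b (.n
3) (.n 3))) (.b (.b (.n 3) (.n 3)) (.b (.n 3) (.n 3))))))

/-- subtree -/
def T1001 : CT :=
  .b (.b (.b (.b (.b (.b (.n 3) (.n 3)) (.b (.n 3) (.n 3))) (.b (.b (.n 3) (.n 3)) (.b (.n 3) (.n 3)))) (.b (.b (.b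
(.n 0) (.n 0)) (.b (.n 0) (.n 0))) (.b (.b (.n 0) (.n 0)) (.b (.n 0) (.n 0))))) (.b (.b (.b (.b (.n 3) (.n 3)) (.b (.n
3) (.n 3))) (.b (.b (.n 3) (.n 3)) (.b (.n 3) (.n 3)))) (.b (.b (.b (.n 0) (.n 0)) (.b (.n 0) (.n 0))) (.b (.b (.n 0)
(.n 0)) (.b (.n 0) (.n 0)))))) (.b (.b (.b (.b (.b (.n 0) (.n 0)) (.b (.n 0) (.n 0))) (.b (.b (.n 0) (.n 0)) (.b (.n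
0) (.n 0)))) (.b (.b (.b (.n 3) (.n 3)) (.b (.n 3) (.n 3))) (.b (.b (.n 3) (.n 3)) (.b (.n 3) (.n 3))))) (.b (.b (.b
(.b (.n 0) (.n 0)) (.b (.n 0) (.n 0))) (.b (.b (.n 0) (.n 0)) (.b (.n 0) (.n 0)))) (.b (.b (.b (.n 3) (.n 3)) (.b (.n
3) (.n 3))) (.b (.b (.n 3) (.n 3)) (.b (.n 3) (.n 3))))))

/-- subtree -/
def T100 : CT := .b T1000 T1001

/-- subtree -/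
def T1010 : CT :=
  .b (.b (.b (.b (.b (.b (.n 3) (.n 3)) (.b (.n 3) (.n 3))) (.b (.b (.n 3) (.n 3)) (.b (.n 3) (.n 3)))) (.b (.b (.b
(.n 0) (.n 0)) (.b (.n 0) (.n 0))) (.b (.b (.n 0) (.n 0)) (.b (.n 0) (.n 0))))) (.b (.b (.b (.b (.n 3) (.n 3)) (.b (.n
3) (.n 3))) (.b (.b (.n 3) (.n 3)) (.b (.n 3) (.n 3)))) (.b (.b (.b (.n 0) (.n 0)) (.b (.n 0) (.n 0))) (.b (.b (.n 0)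
(.n 0)) (.b (.n 0) (.n 0)))))) (.b (.b (.b (.b (.b (.n 0) (.n 0)) (.b (.n 0) (.n 0))) (.b (.b (.n 0) (.n 0)) (.b (.n
0) (.n 0)))) (.b (.b (.b (.n 3) (.n 3)) (.b (.n 3) (.n 3))) (.b (.b (.n 3) (.n 3)) (.b (.n 3) (.n 3))))) (.b (.b (.b
(.b (.n 0) (.n 0)) (.b (.n 0) (.n 0))) (.b (.b (.n 0) (.n 0)) (.b (.n 0) (.n 0)))) (.b (.b (.b (.n 3) (.n 3)) (.b (.n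
3) (.n 3))) (.b (.b (.n 3) (.n 3)) (.b (.n 3) (.n 3))))))

/-- subtree -/
def T1011 : CT :=
  .b (.b (.b (.b (.b (.b (.n 0) (.n 0)) (.b (.n 0) (.n 0))) (.b (.b (.n 0) (.n 0)) (.b (.n 0) (.n 0)))) (.b (.b (.b
(.n 3) (.n 3)) (.b (.n 3) (.n 3))) (.b (.b (.n 3) (.n 3)) (.b (.n 3) (.n 3))))) (.b (.b (.b (.b (.n 0) (.n 0)) (.b (.n
0) (.n 0))) (.b (.b (.n 0) (.n 0)) (.b (.n 0) (.n 0)))) (.b (.b (.b (.n 3) (.n 3)) (.b (.n 3) (.n 3))) (.b (.b (.n 3)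
(.n 3)) (.b (.n 3) (.n 3)))))) (.b (.b (.b (.b (.b (.n 0) (.n 0)) (.b (.n 0) (.n 0))) (.b (.b (.n 0) (.n 0)) (.b (.n
0) (.n 0)))) (.b (.b (.b (.n 3) (.n 3)) (.b (.n 3) (.n 3))) (.b (.b (.n 3) (.n 3)) (.b (.n 3) (.n 3))))) (.b (.b (.b
(.b (.n 0) (.n 0)) (.b (.n 0) (.n 0))) (.b (.b (.n 0) (.n 0)) (.b (.n 0) (.n 0)))) (.b (.b (.b (.n 3) (.n 3)) (.b (.n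
3) (.n 3))) (.b (.b (.n 3) (.n 3)) (.b (.n 3) (.n 3))))))

/-- subtree -/
def T101 : CT := .b T1010 T1011

/-- subtree -/
def T10 : CT := .b T100 T101

/-- subtree -/
def T1100 : CT :=
  .b (.b (.b (.b (.b (.b (.n 0) (.n 0)) (.b (.n 0) (.n 0))) (.b (.b (.n 0) (.n 0)) (.b (.n 0) (.n 0)))) (.b (.b (.b
(.n 0) (.n 0)) (.b (.n 0) (.n 0))) (.b (.b (.n 0) (.n 0)) (.b (.n 0) (.n 0))))) (.b (.b (.b (.b (.n 0) (.n 0)) (.b (.n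
0) (.n 0))) (.b (.b (.n 0) (.n 0)) (.b (.n 0) (.n 0)))) (.b (.b (.b (.n 0) (.n 0)) (.b (.n 0) (.n 0))) (.b (.b (.n 0)
(.n 0)) (.b (.n 0) (.n 0)))))) (.b (.b (.b (.b (.b (.n 0) (.n 0)) (.b (.n 0) (.n 0))) (.b (.b (.n 0) (.n 0)) (.b (.n
0) (.n 0)))) (.b (.b (.b (.n 0) (.n 0)) (.b (.n 0) (.n 0))) (.b (.b (.n 0) (.n 0)) (.b (.n 0) (.n 0))))) (.b (.b (.b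
(.b (.n 0) (.n 0)) (.b (.n 0) (.n 0))) (.b (.b (.n 0) (.n 0)) (.b (.n 0) (.n 0)))) (.b (.b (.b (.n 0) (.n 0)) (.b (.n
0) (.n 0))) (.b (.b (.n 0) (.n 0)) (.b (.n 0) (.n 0))))))

/-- subtree -/
def T1101 : CT :=
  .b (.b (.b (.b (.b (.b (.n 0) (.n 0)) (.b (.n 0) (.n 0))) (.b (.b (.n 0) (.n 0)) (.b (.n 0) (.n 0)))) (.b (.b (.b
(.n 0) (.n 0)) (.b (.n 0) (.n 0))) (.b (.b (.n 0) (.n 0)) (.b (.n 0) (.n 0))))) (.b (.b (.b (.b (.n 0) (.n 0)) (.b (.n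
0) (.n 0))) (.b (.b (.n 0) (.n 0)) (.b (.n 0) (.n 0)))) (.b (.b (.b (.n 0) (.n 0)) (.b (.n 0) (.n 0))) (.b (.b (.n 0)
(.n 0)) (.b (.n 0) (.n 0)))))) (.b (.b (.b (.b (.b (.n 0) (.n 0)) (.b (.n 0) (.n 0))) (.b (.b (.n 0) (.n 0)) (.b (.n
0) (.n 0)))) (.b (.b (.b (.n 0) (.n 0)) (.b (.n 0) (.n 0))) (.b (.b (.n 0) (.n 0)) (.b (.n 0) (.n 0))))) (.b (.b (.b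
(.b (.n 0) (.n 0)) (.b (.n 0) (.n 0))) (.b (.b (.n 0) (.n 0)) (.b (.n 0) (.n 0)))) (.b (.b (.b (.n 0) (.n 0)) (.b (.n
0) (.n 0))) (.b (.b (.n 0) (.n 0)) (.b (.n 0) (.n 0))))))

/-- subtree -/
def T110 : CT := .b T1100 T1101

/-- subtree -/
def T1110 : CT :=
  .b (.b (.b (.b (.b (.b (.i 0 0x5448a2d85146ca) (.i 0 0x4b6cc4836596186e25146ca)) (.b (.i 0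
0x5c5128a251865465c6e2894454) (.i 0 0x18a38dc6e38e2894454))) (.b (.b (.i 0 0xb8a251b8e171251b65c) (.i 0
0x628db2a28a32cb8ca51b65c)) (.b (.i 0 0x96d98906cb2c38c32e3711719) (.i 0 0x5c5128dc70b8822e3711719)))) (.b (.b (.b (.i
0 0x17144a2514282454454) (.i 0 0x151228b61c6624a2454454)) (.b (.i 0 0x16d989288a88a2823128d98d9) (.i 0
0x2e28945128c32928d98d9))) (.b (.b (.i 0 0x5948a8d86e151c7198d9) (.i 0 0x16d989251c7128c365c7198d9)) (.b (.i 0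
0x5c4622a051b2e36528e3651) (.i 0 0x18a36ca8a28cb2e36528e3651))))) (.b (.b (.b (.b (.i 0 0x96d98906cb2c365c7118db8ca)
(.i 0 0x5c5128dc7147118db8ca)) (.b (.i 0 0x628db2a28a371c6cb314) (.i 0 0x166389471211c6cb314))) (.b (.b (.i 0
0xb2cb0db66241c6e25146ca) (.i 0 0x16d989288b6624846e25146ca)) (.b (.i 0 0x628db2a28922d9891) (.i 0
0x598e251c4825122d9891)))) (.b (.b (.b (.i 0 0x151229461b65871c7198d9) (.i 0 0x16522a361b85408c7198d9)) (.b (.i 0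
0x12db3120db2d9511514) (.i 0 0x2a33195028db2d9511514))) (.b (.b (.i 0 0x17144a28946195197118cb8ca) (.i 0
0x18a38dc6e38918cb8ca)) (.b (.i 0 0x96d98906cb2c28d98d9) (.i 0 0x5448a2d87198928528d98d9)))))) (.b (.b (.b (.b (.b (.i
0 0x2a38925128a385c7198d9) (.i 0 0xc51b65451465c7198d9)) (.b (.i 0 0x4b6cc48365961b2e36528e3651) (.i 0
0x2a36cb6dc6c381b6528e3651))) (.b (.b (.i 0 0x5c5128dc70b8823128d98d9) (.i 0 0x5c51289451c3128d98d9)) (.b (.i 0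
0x628db2a171151b8dc712454454) (.i 0 0xa454454)))) (.b (.b (.b (.i 0 0x17144a251b2a24a38e2894454) (.i 0 0x16e2894454))
(.b (.i 0 0x2e28916e38e25146ca) (.i 0 0xa8e24916e38e25146ca))) (.b (.b (.i 0 0xc51b65450c71c0e06ca51b65c) (.i 0
0xa8e24945128c36ca51b65c)) (.b (.i 0 0x546d96dc61b2e3711719) (.i 0 0x3146d951466251c2e3711719))))) (.b (.b (.b (.b (.i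
0 0x17144a28946195128d98d9) (.i 0 0x2db3125115114504528d98d9)) (.b (.i 0 0x628db2a28638e06cb8ca) (.i 0
0x546cc51b86371c5118cb8ca))) (.b (.b (.i 0 0xa8d98a370b71c48c7198d9) (.i 0 0xb6cc49445b31251c7198d9)) (.b (.i 0
0x2a389245b8e32d9511514) (.i 0 0x151b65b6e361c0db2d9511514)))) (.b (.b (.b (.i 0 0x546d96dc61b7118db8ca) (.i 0
0x18a36ca8a33128507118db8ca)) (.b (.i 0 0x4b6cc48365961871c6cb314) (.i 0 0xa8db2db7194142a071c6cb314))) (.b (.b (.i 0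
0x4b6cc4836596185122d9891) (.i 0 0xa8db2db7194142a05122d9891)) (.b (.i 0 0x5448a2d87198a25146ca) (.i 0
0x2514524546c371c6e25146ca))))))

/-- subtree -/
def T1111 : CT :=
  .b (.b (.b (.b (.b (.b (.n 0) (.n 0)) (.b (.n 0) (.n 0))) (.b (.b (.n 0) (.n 0)) (.b (.n 0) (.n 0)))) (.b (.b (.b
(.n 0) (.n 0)) (.b (.n 0) (.n 0))) (.b (.b (.n 0) (.n 0)) (.b (.n 0) (.n 0))))) (.b (.b (.b (.b (.n 0) (.n 0)) (.b (.n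
0) (.n 0))) (.b (.b (.n 0) (.n 0)) (.b (.n 0) (.n 0)))) (.b (.b (.b (.n 0) (.n 0)) (.b (.n 0) (.n 0))) (.b (.b (.n 0)
(.n 0)) (.b (.n 0) (.n 0)))))) (.b (.b (.b (.b (.b (.n 0) (.n 0)) (.b (.n 0) (.n 0))) (.b (.b (.n 0) (.n 0)) (.b (.n
0) (.n 0)))) (.b (.b (.b (.n 0) (.n 0)) (.b (.n 0) (.n 0))) (.b (.b (.n 0) (.n 0)) (.b (.n 0) (.n 0))))) (.b (.b (.b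
(.b (.n 0) (.n 0)) (.b (.n 0) (.n 0))) (.b (.b (.n 0) (.n 0)) (.b (.n 0) (.n 0)))) (.b (.b (.b (.n 0) (.n 0)) (.b (.n
0) (.n 0))) (.b (.b (.n 0) (.n 0)) (.b (.n 0) (.n 0))))))

/-- subtree -/
def T111 : CT := .b T1110 T1111

/-- subtree -/
def T11 : CT := .b T110 T111

/-- subtree -/
def T1 : CT := .b T10 T11

/-- subtree -/
def T : CT := .b T0 T1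

/-- the centralizer of `y` -/
def cy : List (ℕ × List (List ℕ)) :=
  [(45, [[], [0, 0], [0, 2, 0, 2, 4], [0, 4, 2, 1, 2], [4, 3, 0, 3, 1], [3, 0, 3, 4, 0], [4, 2, 0, 2, 4, 3, 1, 3], [2,
0, 2, 4, 3, 1, 3, 4], [2, 2, 2, 0, 4, 3, 3, 3, 4], [2, 2, 2, 4, 0, 3, 3, 3, 4], [4, 2, 2, 2, 0, 4, 3, 3, 3], [3, 0, 2,
2, 0, 4, 3, 3, 3, 1], [3, 4, 2, 4, 3, 3, 4, 2, 4, 3], [0, 2, 2, 2, 0, 4, 3, 3, 1, 2], [0, 2, 2, 2, 4, 0, 3, 3, 1, 2],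
[3, 0, 2, 2, 0, 4, 3, 3, 3, 0], [3, 4, 2, 2, 4, 0, 3, 3, 4, 2, 4], [0, 0, 4, 2, 2, 2, 0, 4, 3, 3, 3], [3, 0, 3, 4, 3,
0, 3, 0, 3, 1, 3], [0, 2, 4, 3, 0, 4, 3, 3, 4, 1, 3, 4, 2], [3, 4, 2, 0, 4, 2, 2, 4, 1, 2, 4, 3, 1], [0, 2, 0, 2, 4,
2, 0, 2, 0, 2, 1, 2, 1], [2, 0, 2, 4, 3, 1, 2, 2, 0, 4, 3, 3, 3], [2, 2, 2, 4, 0, 3, 3, 0, 2, 4, 3, 1, 3], [3, 3, 0,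
3, 4, 2, 4, 2, 2, 1, 2, 4, 1, 2], [3, 4, 2, 2, 2, 0, 2, 2, 2, 4, 2, 1, 2, 2], [3, 4, 2, 4, 2, 0, 2, 4, 3, 4, 3, 3, 4,
2], [3, 4, 3, 4, 2, 4, 2, 2, 2, 4, 1, 3, 4, 2], [2, 0, 3, 3, 0, 3, 4, 2, 2, 1, 2, 2, 4, 2], [2, 0, 4, 3, 3, 4, 3, 4,
2, 4, 2, 2, 4, 2], [2, 4, 3, 4, 3, 3, 4, 3, 3, 4, 3, 4, 2, 4], [2, 2, 2, 0, 4, 3, 3, 3, 4, 3, 0, 3, 4, 1], [2, 2, 2,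
4, 0, 3, 3, 3, 4, 3, 0, 3, 4, 1], [0, 2, 0, 2, 4, 3, 0, 2, 2, 0, 4, 3, 3, 3, 1], [3, 4, 2, 2, 0, 4, 2, 0, 3, 4, 3, 4,
3, 4, 2], [3, 4, 2, 2, 4, 0, 2, 0, 3, 4, 3, 4, 3, 4, 2], [0, 4, 2, 1, 4, 2, 2, 2, 0, 2, 2, 2, 4, 2, 1, 2, 2], [0, 4,
2, 1, 4, 3, 3, 0, 3, 0, 2, 2, 1, 2, 4, 3, 3], [0, 4, 2, 1, 4, 3, 3, 0, 3, 3, 4, 2, 1, 2, 2, 1, 3], [4, 2, 0, 2, 4, 3,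
3, 3, 0, 3, 4, 2, 2, 1, 2, 2, 4, 2], [0, 2, 2, 2, 0, 4, 3, 3, 1, 2, 2, 0, 2, 0, 2, 1, 2, 1], [0, 2, 2, 2, 0, 4, 3, 3,
1, 2, 0, 3, 0, 3, 0, 3, 1, 3], [0, 2, 2, 2, 4, 0, 3, 3, 4, 3, 3, 0, 4, 2, 2, 4, 3, 1], [4, 3, 0, 3, 1, 3, 4, 2, 2, 2,
0, 2, 2, 2, 4, 2, 1, 2, 2], [3, 4, 2, 2, 0, 4, 2, 0, 3, 4, 0, 2, 4, 3, 4, 3, 3, 4, 2], [3, 4, 2, 2, 4, 0, 2, 0, 3, 4,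
0, 2, 4, 3, 4, 3, 3, 4, 2], [2, 0, 3, 3, 0, 3, 4, 2, 2, 1, 2, 2, 2, 4, 3, 3, 4, 2, 4, 3], [3, 4, 2, 2, 4, 0, 2, 0, 3,
4, 3, 4, 3, 4, 2, 4, 3, 0, 3, 1]]), (51, [[], [0, 0, 3, 4, 2, 4, 3, 3, 3, 3, 4, 2, 2, 4, 2, 4, 3, 4], [4, 3, 4, 2, 2,
2, 0, 3, 4, 3, 4, 2, 0, 4, 3, 3, 4, 0, 3, 1], [2, 0, 2, 4, 3, 1, 3, 4, 2, 4, 3, 4, 3, 3, 0, 2, 2, 4, 2, 4, 3], [0, 4,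
2, 1, 2, 2, 4, 3, 4, 3, 3, 4, 3, 4, 3, 3, 4, 2, 1, 2, 2]]), (169, [[], [0, 2, 0, 2, 4, 0, 4, 2, 1, 2], [0, 4, 3, 4, 2,
4, 3, 3, 4, 3, 0, 4, 2, 2, 4, 3, 1], [0, 4, 2, 1, 2, 2, 0, 2, 0, 2, 1, 2, 2, 2, 2, 4, 0, 3, 3, 1, 2]]), (7, [[], [2,
0, 2, 0, 2, 1, 2, 1], [3, 4, 2, 0, 4, 2, 4, 2, 4, 1, 2, 4, 3, 4, 0], [3, 4, 2, 0, 4, 2, 4, 2, 4, 1, 2, 4, 3, 4, 3, 0,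
3, 0, 3, 1, 3], [0, 3, 0, 3, 0, 3, 1, 3, 3, 4, 2, 0, 4, 2, 4, 2, 4, 1, 2, 4, 3, 4, 1], [2, 0, 2, 0, 2, 1, 2, 1, 3, 4,
2, 0, 4, 2, 4, 2, 4, 1, 2, 4, 3, 4, 3, 0, 3, 0, 3, 1, 3]])]

/-- the centralizer of `e` -/
def ce : List (ℕ × List (List ℕ)) :=
  [(7, [[], [0, 0], [0, 2, 0, 2, 4], [0, 4, 2, 1, 2], [4, 3, 0, 3, 1], [3, 0, 3, 4, 0], [4, 2, 0, 2, 4, 3, 1, 3], [2,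
0, 2, 4, 3, 1, 3, 4]]), (0, [[], [3, 4, 3, 3, 0, 3, 0, 2, 2, 1, 2, 4, 3, 3, 3, 4, 3, 3, 0, 3, 0, 2, 2, 1, 2, 4, 3, 3],
[3, 4, 2, 2, 0, 4, 2, 0, 3, 4, 3, 4, 2, 0, 4, 2, 0, 3, 4, 3, 4, 3, 4, 0, 3, 4, 2, 0, 2, 4], [0, 3, 0, 3, 0, 3, 1, 3,
3, 0, 2, 2, 0, 4, 3, 3, 3, 1, 4, 3, 4, 2, 2, 2, 0, 3, 4, 3, 4, 3, 4, 2], [3, 4, 2, 2, 2, 0, 2, 2, 2, 4, 2, 1, 2, 0, 3,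
4, 3, 0, 3, 0, 3, 1, 3, 4, 3, 0, 3, 3, 0, 3, 0, 3, 1, 3]]), (8, [[], [0, 2, 0, 2, 4, 0, 4, 2, 1, 2]])]

/-- the square roots of `y` -/
def rts : List (List ℕ) :=
  [[0, 2, 0, 2, 4], [0, 3, 0, 3, 1, 3, 1, 3, 0, 2, 0, 2, 4, 2, 0, 2, 0, 2, 1, 2, 1], [4, 2, 2, 2, 4, 1, 3, 3, 3, 0, 2,
0, 2, 4, 2, 2, 2, 0, 4, 3, 3, 3, 4], [2, 2, 2, 4, 1, 3, 3, 3, 4, 0, 2, 0, 2, 2, 2, 2, 0, 4, 3, 3, 3], [2, 4, 3, 4, 2,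
2, 4, 3, 4, 2, 0, 2, 0, 2, 4, 3, 4, 2, 4, 3, 3, 4, 2, 4, 3], [3, 0, 2, 2, 4, 1, 3, 3, 0, 2, 4, 0, 2, 2, 2, 0, 4, 3, 3,
1, 2], [4, 3, 1, 3, 3, 0, 3, 1, 3, 1, 3, 0, 2, 0, 2, 4, 2, 0, 2, 0, 2, 1, 2, 2, 0, 2, 4], [3, 3, 4, 3, 4, 2, 2, 4, 3,
4, 3, 0, 2, 4, 0, 2, 2, 4, 2, 4, 3, 3, 4, 2, 4, 2, 2], [0, 3, 3, 4, 3, 4, 2, 2, 4, 3, 4, 3, 3, 0, 2, 0, 2, 4, 2, 2, 4,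
2, 4, 3, 3, 4, 2, 4, 2, 2, 1], [2, 4, 3, 4, 3, 3, 1, 2, 2, 4, 2, 4, 3, 0, 2, 0, 2, 4, 2, 4, 3, 4, 3, 3, 0, 2, 2, 4, 2,
4, 3], [3, 4, 2, 0, 4, 2, 1, 3, 4, 1, 3, 4, 2, 0, 2, 0, 2, 4, 3, 4, 2, 0, 4, 2, 0, 3, 4, 1, 3, 4, 2], [3, 0, 3, 4, 2,
2, 2, 4, 1, 3, 3, 1, 2, 0, 2, 0, 2, 4, 3, 0, 2, 2, 0, 4, 3, 3, 3, 4, 2, 1, 2], [2, 0, 2, 2, 4, 3, 4, 2, 2, 4, 3, 4, 1,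
3, 0, 2, 0, 2, 4, 2, 0, 4, 2, 4, 3, 3, 4, 2, 4, 3, 3, 1, 3], [3, 3, 0, 3, 4, 3, 3, 3, 1, 3, 3, 3, 4, 2, 0, 2, 0, 2, 4,
3, 4, 2, 2, 2, 0, 2, 2, 2, 4, 2, 1, 2, 2], [2, 2, 4, 3, 0, 3, 3, 1, 2, 1, 2, 2, 4, 2, 0, 2, 0, 2, 4, 3, 4, 3, 3, 0, 3,
0, 2, 2, 1, 2, 4, 3, 3], [2, 4, 3, 4, 3, 3, 4, 2, 2, 4, 2, 4, 3, 4, 0, 2, 0, 2, 2, 4, 3, 4, 3, 3, 4, 2, 2, 4, 2, 4,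
3], [3, 4, 2, 4, 2, 4, 2, 1, 3, 3, 3, 4, 2, 4, 0, 2, 0, 4, 2, 2, 2, 0, 3, 4, 3, 4, 3, 4, 2], [2, 4, 3, 4, 3, 3, 4, 3,
3, 4, 3, 4, 2, 4, 0, 2, 0, 4, 2, 4, 2, 2, 4, 2, 2, 4, 2, 4, 3], [4, 2, 4, 3, 4, 3, 3, 4, 2, 2, 4, 2, 4, 3, 0, 2, 0, 2,
4, 2, 4, 3, 4, 3, 3, 4, 2, 2, 4, 2, 4, 3, 4], [4, 3, 4, 2, 4, 2, 2, 4, 2, 2, 4, 2, 4, 3, 0, 2, 0, 2, 4, 2, 4, 3, 4, 3,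
3, 4, 3, 3, 4, 3, 4, 2, 4], [2, 4, 3, 4, 3, 3, 1, 2, 2, 2, 2, 4, 3, 4, 2, 0, 2, 0, 2, 4, 3, 4, 2, 4, 3, 3, 3, 3, 0, 2,
2, 4, 2, 4, 3], [3, 4, 2, 4, 2, 4, 2, 1, 3, 4, 1, 3, 3, 4, 2, 0, 2, 0, 2, 4, 3, 4, 2, 2, 0, 4, 2, 0, 3, 4, 3, 4, 3, 4,
2], [0, 2, 1, 4, 2, 4, 2, 2, 4, 2, 2, 4, 2, 4, 3, 0, 2, 0, 2, 4, 2, 4, 3, 4, 3, 3, 4, 3, 3, 4, 3, 4, 0, 3, 1], [3, 0,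
2, 2, 4, 1, 3, 3, 3, 3, 0, 3, 1, 3, 1, 3, 0, 2, 0, 2, 4, 2, 0, 2, 0, 2, 1, 2, 2, 2, 2, 0, 4, 3, 3, 1, 2], [4, 2, 4, 3,
4, 3, 3, 4, 2, 2, 2, 2, 4, 3, 4, 2, 0, 2, 0, 2, 4, 3, 4, 2, 4, 3, 3, 3, 3, 4, 2, 2, 4, 2, 4, 3, 4], [4, 3, 4, 2, 4, 2,
2, 4, 2, 2, 2, 2, 4, 3, 4, 2, 0, 2, 0, 2, 4, 3, 4, 2, 4, 3, 3, 3, 3, 4, 3, 3, 4, 3, 4, 2, 4], [3, 3, 0, 3, 4, 2, 2, 4,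
2, 4, 2, 2, 4, 2, 4, 3, 0, 2, 0, 2, 4, 2, 4, 3, 4, 3, 3, 4, 3, 4, 3, 3, 4, 2, 1, 2, 2], [2, 4, 3, 4, 3, 3, 4, 3, 3, 4,
2, 4, 1, 3, 3, 4, 2, 0, 2, 0, 2, 4, 3, 4, 2, 2, 0, 4, 3, 4, 2, 2, 4, 2, 2, 4, 2, 4, 3], [4, 3, 1, 3, 3, 4, 2, 0, 4, 2,
1, 2, 4, 1, 2, 4, 3, 0, 2, 0, 2, 4, 2, 4, 3, 0, 4, 3, 0, 3, 4, 1, 3, 4, 2, 2, 0, 2, 4], [0, 4, 2, 1, 4, 2, 4, 2, 4, 2,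
1, 3, 3, 3, 4, 2, 4, 0, 2, 0, 4, 2, 2, 2, 0, 3, 4, 3, 4, 3, 4, 0, 3, 4, 1], [0, 4, 2, 1, 4, 3, 3, 0, 3, 3, 4, 2, 1, 2,
2, 1, 3, 0, 2, 0, 2, 4, 2, 0, 3, 3, 0, 3, 4, 2, 2, 1, 2, 2, 4, 0, 3, 4, 1], [0, 2, 1, 2, 2, 4, 3, 4, 3, 3, 4, 2, 2, 4,
2, 4, 3, 0, 2, 0, 2, 4, 2, 4, 3, 4, 3, 3, 4, 2, 2, 4, 2, 4, 3, 3, 0, 3, 1], [0, 2, 2, 2, 4, 1, 3, 3, 1, 2, 0, 3, 0, 3,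
1, 3, 1, 3, 0, 2, 0, 2, 4, 2, 0, 2, 0, 2, 1, 2, 1, 3, 0, 2, 2, 0, 4, 3, 3, 3, 1], [3, 4, 3, 3, 0, 3, 3, 4, 2, 1, 2, 2,
2, 1, 2, 1, 2, 2, 0, 2, 4, 0, 3, 0, 3, 0, 3, 3, 3, 0, 3, 4, 2, 2, 1, 2, 2, 4, 2], [3, 0, 4, 3, 3, 4, 1, 2, 2, 4, 2, 2,
4, 1, 3, 3, 1, 2, 0, 2, 0, 2, 4, 3, 0, 2, 2, 0, 4, 3, 3, 4, 3, 3, 0, 4, 2, 2, 4, 1, 2], [0, 3, 0, 3, 1, 3, 1, 3, 3, 0,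
2, 2, 4, 1, 3, 3, 0, 2, 4, 0, 2, 2, 2, 0, 4, 3, 3, 1, 2, 2, 0, 2, 0, 2, 1, 2, 1], [3, 0, 2, 2, 4, 1, 3, 3, 4, 3, 3, 4,
1, 2, 2, 4, 1, 2, 0, 2, 0, 2, 4, 3, 0, 4, 3, 3, 0, 4, 2, 2, 4, 2, 2, 0, 4, 3, 3, 1, 2], [4, 3, 1, 3, 1, 2, 4, 3, 4, 3,
3, 1, 2, 2, 4, 2, 4, 3, 0, 2, 0, 2, 4, 2, 4, 3, 4, 3, 3, 0, 2, 2, 4, 2, 4, 3, 0, 2, 0, 2, 4], [3, 0, 3, 4, 1, 2, 4, 3,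
4, 3, 3, 1, 2, 2, 4, 2, 4, 3, 0, 2, 0, 2, 4, 2, 4, 3, 4, 3, 3, 0, 2, 2, 4, 2, 4, 3, 0, 4, 2, 1, 2], [3, 0, 4, 3, 0, 3,
3, 4, 3, 3, 3, 3, 1, 3, 3, 3, 4, 2, 0, 2, 0, 2, 4, 3, 4, 2, 2, 2, 0, 2, 2, 2, 2, 4, 2, 2, 1, 2, 4, 1, 2], [0, 3, 0, 3,
1, 3, 3, 3, 0, 3, 4, 2, 2, 1, 2, 2, 4, 2, 0, 2, 0, 2, 4, 3, 4, 3, 3, 0, 3, 3, 4, 2, 1, 2, 2, 2, 0, 2, 1, 2, 1], [3, 4,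
2, 2, 4, 2, 4, 3, 1, 4, 2, 1, 3, 3, 3, 4, 2, 4, 0, 2, 0, 4, 2, 2, 2, 0, 3, 4, 0, 2, 4, 3, 4, 3, 3, 4, 2], [2, 0, 2, 4,
3, 1, 4, 3, 4, 3, 3, 4, 2, 2, 4, 2, 4, 3, 0, 2, 0, 2, 4, 2, 4, 3, 4, 3, 3, 4, 2, 2, 4, 2, 4, 0, 2, 4, 3, 1, 3], [3, 3,
0, 3, 4, 2, 2, 4, 2, 4, 2, 2, 2, 2, 4, 3, 4, 2, 0, 2, 0, 2, 4, 3, 4, 2, 4, 3, 3, 3, 3, 4, 3, 4, 3, 3, 4, 2, 1, 2, 2],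
[4, 2, 4, 3, 4, 3, 3, 4, 1, 4, 3, 3, 4, 3, 4, 2, 4, 0, 2, 0, 4, 2, 4, 2, 2, 4, 0, 4, 2, 2, 4, 2, 4, 3, 4], [4, 3, 4,
2, 4, 2, 2, 4, 1, 4, 3, 3, 4, 3, 4, 2, 4, 0, 2, 0, 4, 2, 4, 2, 2, 4, 0, 4, 3, 3, 4, 3, 4, 2, 4], [2, 4, 3, 4, 3, 3, 1,
4, 3, 3, 4, 2, 4, 1, 3, 3, 4, 2, 0, 2, 0, 2, 4, 3, 4, 2, 2, 0, 4, 3, 4, 2, 2, 4, 0, 2, 2, 4, 2, 4, 3], [3, 4, 2, 0, 2,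
1, 3, 4, 3, 3, 3, 3, 1, 3, 3, 3, 4, 2, 0, 2, 0, 2, 4, 3, 4, 2, 2, 2, 0, 2, 2, 2, 2, 4, 2, 0, 3, 1, 3, 4, 2], [0, 2, 2,
2, 4, 1, 3, 3, 1, 2, 4, 2, 2, 2, 4, 1, 3, 3, 3, 0, 2, 0, 2, 4, 2, 2, 2, 0, 4, 3, 3, 3, 4, 3, 0, 2, 2, 0, 4, 3, 3, 3,
1], [4, 2, 2, 2, 4, 1, 3, 4, 3, 0, 3, 3, 1, 2, 1, 2, 2, 4, 2, 0, 2, 0, 2, 4, 3, 4, 3, 3, 0, 3, 0, 2, 2, 1, 2, 4, 2, 0,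
4, 3, 3, 3, 4], [4, 3, 1, 3, 1, 3, 4, 2, 4, 2, 4, 2, 1, 3, 3, 3, 4, 2, 4, 0, 2, 0, 4, 2, 2, 2, 0, 3, 4, 3, 4, 3, 4, 2,
0, 2, 0, 2, 4], [4, 3, 4, 2, 2, 4, 1, 3, 4, 2, 4, 2, 1, 3, 3, 3, 4, 2, 4, 0, 2, 0, 4, 2, 2, 2, 0, 3, 4, 3, 4, 2, 0, 4,
3, 3, 4, 2, 4], [4, 3, 1, 3, 1, 2, 4, 3, 4, 3, 3, 4, 3, 3, 4, 3, 4, 2, 4, 0, 2, 0, 4, 2, 4, 2, 2, 4, 2, 2, 4, 2, 4, 3,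
0, 2, 0, 2, 4], [3, 4, 2, 2, 4, 2, 4, 3, 1, 4, 2, 1, 3, 4, 1, 3, 3, 4, 2, 0, 2, 0, 2, 4, 3, 4, 2, 2, 0, 4, 2, 0, 3, 4,
0, 2, 4, 3, 4, 3, 3, 4, 2], [0, 4, 2, 1, 3, 0, 3, 4, 2, 2, 4, 2, 4, 2, 2, 4, 2, 4, 3, 0, 2, 0, 2, 4, 2, 4, 3, 4, 3, 3,
4, 3, 4, 3, 3, 4, 2, 1, 2, 0, 3, 4, 1], [3, 4, 2, 4, 2, 4, 2, 1, 3, 3, 4, 2, 2, 4, 2, 2, 4, 2, 4, 3, 0, 2, 0, 2, 4, 2,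
4, 3, 4, 3, 3, 4, 3, 3, 4, 2, 2, 0, 3, 4, 3, 4, 3, 4, 2], [2, 0, 2, 1, 2, 1, 2, 4, 2, 1, 2, 4, 2, 2, 2, 4, 1, 3, 3, 3,
0, 2, 0, 2, 4, 2, 2, 2, 0, 4, 3, 3, 3, 4, 3, 0, 3, 4, 3, 0, 3, 0, 3, 1, 3], [4, 2, 4, 3, 4, 3, 3, 4, 1, 4, 3, 3, 4, 2,
4, 1, 3, 3, 4, 2, 0, 2, 0, 2, 4, 3, 4, 2, 2, 0, 4, 3, 4, 2, 2, 4, 0, 4, 2, 2, 4, 2, 4, 3, 4], [0, 2, 1, 4, 2, 2, 4, 1,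
3, 4, 2, 4, 2, 1, 3, 3, 3, 4, 2, 4, 0, 2, 0, 4, 2, 2, 2, 0, 3, 4, 3, 4, 2, 0, 4, 3, 3, 4, 0, 3, 1], [3, 3, 0, 3, 4, 2,
2, 4, 3, 4, 3, 4, 2, 2, 2, 2, 4, 1, 3, 3, 3, 0, 2, 0, 2, 4, 2, 2, 2, 0, 4, 3, 3, 3, 3, 4, 2, 4, 2, 4, 3, 3, 4, 2, 1,
2, 2], [3, 4, 2, 2, 4, 2, 4, 3, 1, 3, 4, 0, 4, 2, 2, 4, 1, 2, 4, 0, 2, 4, 0, 2, 4, 3, 0, 4, 3, 3, 4, 1, 4, 2, 0, 2, 4,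
3, 4, 3, 3, 4, 2], [3, 4, 2, 0, 4, 2, 1, 3, 4, 1, 4, 2, 4, 2, 1, 3, 3, 3, 4, 2, 4, 0, 2, 0, 4, 2, 2, 2, 0, 3, 4, 3, 4,
0, 4, 2, 0, 3, 4, 1, 3, 4, 2], [4, 3, 1, 3, 3, 0, 3, 1, 3, 1, 3, 3, 0, 2, 2, 4, 1, 3, 3, 0, 2, 4, 0, 2, 2, 2, 0, 4, 3,
3, 1, 2, 2, 0, 2, 0, 2, 1, 2, 2, 0, 2, 4], [3, 0, 3, 4, 3, 0, 3, 1, 3, 1, 3, 3, 0, 2, 2, 4, 1, 3, 3, 0, 2, 4, 0, 2, 2,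
2, 0, 4, 3, 3, 1, 2, 2, 0, 2, 0, 2, 1, 2, 4, 2, 1, 2], [3, 0, 3, 4, 3, 0, 3, 1, 3, 3, 3, 0, 3, 4, 2, 2, 1, 2, 2, 4, 2,
0, 2, 0, 2, 4, 3, 4, 3, 3, 0, 3, 3, 4, 2, 1, 2, 2, 2, 0, 2, 1, 2, 4, 2, 1, 2], [0, 4, 2, 1, 4, 2, 0, 2, 1, 3, 4, 3, 3,
3, 3, 1, 3, 3, 3, 4, 2, 0, 2, 0, 2, 4, 3, 4, 2, 2, 2, 0, 2, 2, 2, 2, 4, 2, 0, 3, 1, 3, 4, 0, 3, 4, 1], [3, 0, 4, 3, 0,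
4, 3, 4, 3, 4, 1, 4, 2, 4, 2, 1, 3, 3, 3, 4, 2, 4, 0, 2, 0, 4, 2, 2, 2, 0, 3, 4, 3, 4, 0, 4, 2, 4, 2, 4, 1, 2, 4, 1,
2], [3, 0, 3, 4, 2, 2, 2, 4, 1, 3, 3, 1, 2, 4, 2, 2, 2, 4, 1, 3, 3, 3, 0, 2, 0, 2, 4, 2, 2, 2, 0, 4, 3, 3, 3, 4, 3, 0,
2, 2, 0, 4, 3, 3, 3, 4, 2, 1, 2], [4, 3, 1, 3, 4, 2, 1, 3, 0, 3, 4, 2, 2, 4, 2, 4, 2, 2, 4, 2, 4, 3, 0, 2, 0, 2, 4, 2,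
4, 3, 4, 3, 3, 4, 3, 4, 3, 3, 4, 2, 1, 2, 0, 3, 4, 2, 0, 2, 4], [2, 4, 3, 4, 2, 2, 2, 4, 2, 1, 3, 3, 4, 2, 2, 4, 2, 2,
4, 2, 4, 3, 0, 2, 0, 2, 4, 2, 4, 3, 4, 3, 3, 4, 3, 3, 4, 2, 2, 0, 3, 4, 3, 3, 3, 4, 2, 4, 3], [2, 2, 4, 3, 0, 3, 3, 1,
2, 1, 2, 2, 4, 2, 4, 2, 2, 2, 4, 1, 3, 3, 3, 0, 2, 0, 2, 4, 2, 2, 2, 0, 4, 3, 3, 3, 4, 3, 4, 3, 3, 0, 3, 0, 2, 2, 1,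
2, 4, 3, 3], [2, 4, 3, 4, 3, 3, 4, 3, 3, 4, 2, 1, 2, 4, 3, 1, 4, 2, 1, 3, 3, 3, 4, 2, 4, 0, 2, 0, 4, 2, 2, 2, 0, 3, 4,
0, 2, 4, 3, 0, 3, 4, 2, 2, 4, 2, 2, 4, 2, 4, 3]]

/-- conjugating words for the Sylow 3-subgroup -/
def cj3 : List (List ℕ) :=
  [[3, 3, 1, 3, 3, 1, 3, 3, 3, 1], [3, 1, 3, 3, 4, 3, 4, 3, 1, 3, 4, 1, 3, 3, 4, 1], [3, 4, 3, 3, 3, 4, 3, 4, 3, 4, 1,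
3, 4, 1], [4, 1, 3, 1, 3, 3, 3, 4, 3, 4, 3, 4, 3, 4, 3, 4], [3, 3, 3, 1, 3, 1, 3, 3, 1, 3, 1, 3, 1], [3, 4, 1, 3, 3,
3, 4, 3, 4, 3, 4, 1, 3, 4, 1], [3, 3, 1, 3, 3, 3, 1, 3, 1, 3, 1, 3, 3, 1, 3, 1, 3, 1], [4, 3, 3, 1, 3, 1, 3, 3, 4, 3,
1, 3, 3, 1, 3, 3, 3, 1]]

/-- the centralizer of `s` -/
def cs : List (ℕ × List (List ℕ)) :=
  [(91, [[], [2], [0, 0], [2, 2], [2, 0, 0], [2, 2, 0, 0], [0, 4, 2, 2, 0, 4, 2, 2, 4, 1], [0, 4, 2, 2, 0, 4, 2, 2, 4,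
0], [2, 0, 4, 2, 2, 0, 4, 2, 2, 4, 1], [0, 4, 2, 2, 0, 4, 2, 2, 4, 0, 2], [2, 2, 0, 4, 2, 2, 0, 4, 2, 2, 4, 1], [0, 4,
2, 2, 0, 4, 2, 2, 4, 0, 2, 2], [0, 2, 2, 0, 2, 2, 4, 3, 3, 1, 3, 3, 1], [0, 2, 2, 0, 2, 2, 4, 3, 3, 1, 3, 3, 0], [2,
0, 2, 2, 0, 2, 2, 4, 3, 3, 1, 3, 3, 1], [0, 2, 2, 0, 2, 2, 4, 3, 3, 1, 3, 3, 0, 2], [2, 2, 0, 2, 2, 0, 2, 2, 4, 3, 3,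
1, 3, 3, 1], [0, 2, 2, 0, 2, 2, 4, 3, 3, 1, 3, 3, 0, 2, 2], [0, 2, 2, 0, 2, 0, 4, 2, 2, 1, 3, 3, 3, 3, 1, 3, 4], [2,
0, 2, 2, 0, 2, 0, 4, 2, 2, 1, 3, 3, 3, 3, 1, 3, 4], [0, 0, 0, 2, 2, 0, 2, 0, 4, 2, 2, 1, 3, 3, 3, 3, 1, 3, 4], [2, 2,
0, 2, 2, 0, 2, 0, 4, 2, 2, 1, 3, 3, 3, 3, 1, 3, 4], [2, 0, 0, 0, 2, 2, 0, 2, 0, 4, 2, 2, 1, 3, 3, 3, 3, 1, 3, 4], [0,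
2, 2, 0, 2, 2, 4, 3, 0, 2, 2, 4, 3, 3, 1, 3, 1, 3, 3, 1]]), (0, [[], [0, 4, 2, 4, 2, 4, 2, 4, 3, 4, 3, 3, 3, 4, 3, 0],
[0, 4, 2, 4, 2, 4, 2, 4, 3, 4, 3, 3, 3, 4, 3, 0, 2, 2, 2], [2, 2, 0, 2, 2, 0, 2, 2, 4, 3, 0, 2, 2, 4, 3, 3, 4, 2, 2,
1, 3, 3, 3, 3, 1, 3, 4], [2, 0, 2, 2, 0, 2, 2, 4, 3, 0, 2, 2, 4, 3, 3, 4, 2, 2, 1, 3, 3, 3, 3, 1, 3, 4, 2]]), (386,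
[[], [2, 2, 2], [4, 2, 2, 4, 2, 2, 4, 3, 3, 3, 3, 4, 2], [2, 2, 2, 2, 4, 2, 2, 4, 2, 2, 4, 3, 3, 3, 3, 4]]), (3, [[],
[2, 4, 2, 2, 2, 2, 4, 2, 2, 2, 2, 4, 3, 3, 4, 2], [2, 2, 2, 4, 2, 2, 4, 2, 2, 4, 3, 3, 3, 3, 4, 2]])]

/-- word of an element of order 3 commuting with `y` -/
def w1 : List ℕ := [4, 2, 4, 3, 4, 3, 3, 4, 2, 2, 4, 2, 4, 3]

/-- word of an element of order 3 commuting with `y` -/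
def w2 : List ℕ := [2, 0, 2, 0, 2, 1, 2, 2, 4, 3, 3, 0, 4, 2, 4, 2, 2, 4, 3, 4, 2, 4, 1]

/-- conjugating words for the Sylow 3-subgroup of the centralizer of `y` -/
def cj12 : List (List ℕ) :=
  [[3, 4, 2, 2, 4, 2, 4, 3, 1, 4, 2, 1, 3, 3, 3, 4, 2, 4], [4, 3, 1, 3, 1, 3, 4, 2, 4, 2, 4, 2, 1, 3, 4, 1, 3, 3, 4,
2], [], [2, 2, 4, 3, 0, 3, 3, 1, 2, 1, 2, 2, 4, 0, 3, 4, 1], [3, 3, 0, 3, 4, 3, 3, 3, 1, 3, 3, 3, 4, 0, 3, 4, 1], [2,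
0, 2, 2, 4, 3, 4, 2, 2, 4, 3, 4, 1, 3], [0, 4, 2, 1, 4, 3, 3, 0, 3, 3, 4, 2, 1, 2, 2, 1, 3], [0, 2, 2, 2, 4, 1, 3, 3,
1, 2, 4, 2, 2, 2, 4, 1, 3, 3, 3]]

/-- conjugates of `s1` in the centralizer of `y` -/
def cl1 : List (List ℕ) :=
  [[], [4, 3, 1, 3, 1], [3, 0, 3, 4, 1], [0, 3, 0, 3, 1, 3, 1, 3], [4, 2, 2, 2, 4, 1, 3, 3, 3], [2, 2, 2, 4, 1, 3, 3,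
3, 4], [0, 2, 2, 2, 4, 1, 3, 3, 1, 2], [2, 4, 3, 4, 2, 2, 4, 3, 4, 2], [3, 0, 2, 2, 4, 1, 3, 3, 3, 1], [4, 3, 4, 2, 2,
4, 1, 3, 3, 4, 2], [2, 0, 2, 1, 2, 1, 2, 2, 1, 2, 4], [0, 2, 4, 3, 3, 4, 1, 2, 2, 4, 1, 2], [3, 0, 4, 3, 4, 2, 2, 4,
3, 4, 2, 4, 1], [0, 4, 3, 4, 2, 4, 3, 3, 4, 2, 4, 1, 2], [3, 4, 2, 0, 4, 2, 1, 3, 4, 1, 3, 4, 2], [2, 2, 2, 4, 1, 3,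
3, 0, 2, 4, 3, 1, 3], [3, 0, 3, 4, 2, 2, 2, 4, 1, 3, 3, 1, 2], [2, 0, 2, 2, 4, 3, 4, 2, 2, 4, 3, 4, 1, 3], [3, 0, 4,
3, 0, 3, 3, 4, 3, 4, 2, 1, 2, 2], [3, 0, 4, 3, 0, 4, 3, 4, 3, 4, 1, 3, 4, 2], [2, 2, 4, 3, 0, 3, 3, 1, 2, 1, 2, 2, 4,
2], [3, 4, 2, 4, 2, 4, 2, 1, 3, 3, 3, 4, 2, 4], [2, 4, 3, 4, 3, 3, 4, 3, 3, 4, 3, 4, 2, 4], [3, 4, 3, 3, 0, 3, 3, 4,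
2, 1, 2, 2, 1, 3], [4, 3, 3, 4, 3, 4, 2, 2, 4, 3, 4, 3, 1, 2], [4, 3, 1, 3, 1, 2, 2, 2, 4, 1, 3, 3, 3, 4], [2, 4, 3,
4, 3, 3, 4, 3, 3, 4, 3, 4, 1, 3, 1], [3, 4, 2, 4, 2, 4, 2, 1, 3, 4, 1, 3, 3, 4, 2], [2, 4, 3, 4, 3, 3, 4, 2, 2, 4, 2,
4, 3, 3, 1, 3, 1], [3, 3, 0, 3, 4, 3, 3, 3, 1, 3, 3, 3, 4, 0, 3, 4, 1], [2, 2, 4, 3, 0, 3, 3, 1, 2, 1, 2, 2, 4, 0, 3,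
4, 1], [2, 4, 3, 4, 3, 3, 4, 3, 3, 4, 2, 4, 1, 3, 3, 4, 2], [0, 4, 3, 4, 2, 4, 3, 3, 4, 3, 4, 1, 2, 2, 4, 3, 1], [0,
4, 2, 1, 4, 2, 4, 2, 4, 2, 1, 3, 3, 3, 4, 2, 4], [0, 4, 2, 1, 4, 3, 3, 0, 3, 3, 4, 2, 1, 2, 2, 1, 3], [3, 4, 3, 3, 0,
3, 3, 4, 2, 1, 2, 2, 2, 4, 3, 1, 3, 4], [3, 0, 4, 3, 3, 4, 1, 2, 2, 4, 2, 2, 4, 1, 3, 3, 1, 2], [0, 3, 0, 3, 1, 3, 1,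
3, 3, 0, 2, 2, 4, 1, 3, 3, 3, 1], [2, 0, 2, 1, 2, 1, 2, 2, 4, 3, 3, 4, 1, 2, 2, 4, 1, 2], [3, 0, 2, 2, 4, 1, 3, 3, 4,
3, 3, 4, 1, 2, 2, 4, 1, 2], [3, 0, 4, 3, 0, 3, 3, 4, 3, 3, 3, 3, 1, 3, 3, 3, 4, 2], [3, 4, 2, 2, 4, 2, 4, 3, 1, 4, 2,
1, 3, 3, 3, 4, 2, 4], [0, 4, 2, 1, 4, 2, 4, 2, 4, 2, 1, 3, 4, 1, 3, 3, 4, 2], [3, 3, 0, 3, 4, 2, 2, 4, 2, 4, 2, 2, 2,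
2, 4, 3, 4, 2], [4, 2, 4, 3, 4, 3, 3, 4, 1, 4, 3, 3, 4, 3, 4, 1, 3, 1], [4, 3, 4, 2, 4, 2, 2, 4, 1, 4, 3, 3, 4, 3, 4,
1, 3, 1], [3, 4, 2, 0, 2, 1, 3, 4, 3, 3, 3, 3, 1, 3, 3, 3, 4, 2], [2, 2, 4, 3, 0, 3, 3, 1, 2, 1, 2, 2, 4, 2, 4, 3, 1,
3, 1], [4, 2, 4, 3, 4, 3, 3, 4, 2, 2, 4, 2, 4, 3, 4, 3, 1, 3, 1], [2, 4, 3, 4, 3, 3, 4, 3, 3, 4, 3, 4, 2, 4, 3, 0, 3,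
4, 1], [0, 2, 2, 2, 4, 1, 3, 3, 1, 2, 4, 2, 2, 2, 4, 1, 3, 3, 3], [4, 2, 4, 3, 4, 3, 3, 4, 2, 2, 2, 2, 4, 3, 4, 0, 3,
4, 1], [4, 3, 4, 2, 4, 2, 2, 4, 2, 2, 2, 2, 4, 3, 4, 0, 3, 4, 1], [3, 0, 3, 4, 1, 2, 2, 4, 3, 0, 3, 3, 1, 2, 1, 2, 2,
4, 2], [0, 2, 1, 4, 2, 4, 2, 2, 4, 1, 4, 3, 3, 4, 3, 4, 1, 3, 1], [3, 4, 2, 4, 2, 4, 2, 1, 3, 3, 3, 4, 2, 2, 0, 2, 4,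
3, 1, 3], [0, 2, 2, 2, 4, 1, 3, 3, 1, 2, 0, 2, 2, 2, 4, 1, 3, 3, 1, 2], [3, 0, 2, 2, 4, 1, 3, 3, 3, 1, 3, 0, 2, 2, 4,
1, 3, 3, 3, 1], [2, 4, 3, 4, 2, 2, 4, 3, 3, 3, 0, 3, 3, 4, 2, 1, 2, 2, 1, 3], [3, 4, 2, 4, 2, 4, 2, 1, 3, 3, 4, 2, 2,
4, 2, 2, 4, 2, 4, 3], [2, 0, 2, 1, 2, 1, 2, 4, 2, 1, 2, 4, 2, 2, 2, 4, 1, 3, 3, 3], [2, 0, 2, 1, 2, 1, 2, 2, 1, 2, 4,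
2, 2, 2, 4, 1, 3, 3, 3, 4], [4, 3, 1, 3, 1, 2, 4, 3, 4, 3, 3, 4, 3, 3, 4, 3, 4, 1, 3, 1], [4, 3, 1, 3, 1, 3, 4, 2, 4,
2, 4, 2, 1, 3, 4, 1, 3, 3, 4, 2], [4, 3, 1, 3, 4, 2, 1, 4, 3, 3, 0, 3, 3, 4, 2, 1, 2, 2, 1, 3], [0, 2, 1, 4, 2, 4, 2,
2, 4, 2, 2, 4, 2, 4, 3, 4, 3, 1, 3, 1], [0, 2, 1, 4, 2, 4, 2, 2, 4, 2, 2, 2, 2, 4, 3, 4, 0, 3, 4, 1], [3, 3, 0, 3, 4,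
3, 3, 3, 1, 3, 3, 0, 4, 2, 2, 4, 1, 2, 4, 3, 1], [3, 3, 0, 3, 4, 3, 3, 3, 1, 3, 3, 0, 4, 2, 1, 3, 4, 1, 3, 4, 2], [4,
2, 4, 3, 4, 3, 3, 4, 2, 2, 2, 2, 4, 3, 4, 2, 4, 3, 1, 3, 1], [0, 3, 0, 3, 1, 3, 3, 3, 0, 3, 4, 2, 2, 1, 2, 2, 4, 0, 3,
4, 1], [4, 2, 0, 2, 4, 3, 3, 3, 0, 3, 4, 2, 2, 1, 2, 2, 4, 0, 3, 4, 1], [0, 2, 1, 2, 2, 4, 3, 4, 3, 3, 4, 1, 4, 3, 3,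
4, 3, 4, 1, 3, 1], [4, 3, 1, 3, 1, 2, 4, 3, 4, 3, 3, 4, 2, 2, 4, 2, 4, 3, 3, 1, 3, 1], [4, 3, 1, 3, 1, 3, 3, 0, 3, 4,
3, 3, 3, 1, 3, 3, 3, 4, 0, 3, 4, 1], [0, 2, 1, 2, 2, 4, 3, 4, 3, 3, 4, 2, 2, 2, 2, 4, 3, 4, 0, 3, 4, 1], [2, 2, 4, 3,
0, 3, 3, 1, 2, 1, 2, 2, 4, 2, 2, 2, 2, 4, 1, 3, 3, 3, 4], [3, 0, 4, 3, 0, 4, 3, 4, 3, 4, 1, 4, 2, 4, 2, 1, 3, 4, 1, 3,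
3, 4, 2], [3, 0, 3, 4, 1, 2, 0, 2, 1, 2, 1, 2, 2, 4, 3, 3, 4, 1, 2, 2, 4, 1, 2], [3, 0, 3, 4, 1, 4, 2, 4, 3, 4, 3, 3,
4, 2, 2, 2, 2, 4, 3, 4, 0, 3, 4, 1]]

/-- the centralizer of `y` and `s1` -/
def cys : List (ℕ × List (List ℕ)) :=
  [(168, [[], [0, 0], [0, 2, 0, 2, 4, 0, 2, 0, 2, 4], [0, 4, 2, 1, 2, 0, 4, 2, 1, 2], [4, 2, 0, 2, 4, 0, 2, 1, 2, 1],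
[4, 2, 0, 2, 4, 0, 2, 1, 2, 0], [3, 0, 3, 4, 1, 4, 3, 0, 3, 3, 0, 3, 0, 3, 1, 3], [0, 2, 0, 2, 4, 0, 4, 2, 1, 2, 0, 3,
0, 3, 0, 3, 1, 3]]), (45, [[], [4, 2, 4, 3, 4, 3, 3, 4, 2, 2, 4, 2, 4, 3], [2, 4, 3, 4, 3, 3, 4, 2, 2, 4, 2, 4, 3,
4]]), (0, [[], [2, 0, 2, 0, 2, 1, 2, 2, 4, 3, 3, 0, 4, 2, 4, 2, 2, 4, 3, 4, 2, 4, 1], [0, 4, 2, 1, 4, 2, 4, 2, 0, 2,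
4, 3, 4, 3, 3, 4, 2, 0, 3, 0, 3, 0, 3, 1, 3]])]

end Cfsg.Agent.H981.M23.HNData
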