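import Cfsg.Agent.H981.M23.HNData
import Cfsg.Agent.H789.Ore.HNgx
import Cfsg.Agent.HN.FactB
import Cfsg.Agent.H513.HNTau

/-!
# Elements of `H0 = 2.HS.2` above `τ` (helper981, facts for (M,23))

In `H0`: `conj_E` the elements with `g ^ 4 = τ` are conjugate to `E`, `|C(E)| = 80`; `ne_sixteen` no element with `g ^ 8 = τ`;
`|C(y)| = 5760` for `y ^ 2 = τ`; one class of elements of order 3, `|C(s)| = 1440`; `g ^ 3 = τ`, `g ^ 6 = τ` of order 12.
-/

set_option autoImplicit false
set_option maxRecDepth 100000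

namespace Cfsg.Agent.H981.M23.HNTwoA

open Cfsg.Agent.HN.Pres Cfsg.Agent.HN.P1408 Cfsg.Agent.HN.H0Basic Cfsg.Agent.HN.PC
open Cfsg.Agent.HN.Syl
open Cfsg.Agent.SporadicA.PermTab
open Lev HNData

/-- decoding of words -/
def dec (n : ℕ) : List ℕ :=
  Nat.rec (motive := fun _ => ℕ → List ℕ) (fun _ => [])
    (fun _ ih n => cond (Nat.blt n 8) [] (Nat.land n 7 :: ih (Nat.shiftRight n 3))) 60 n

/-- The check of a certificate tree. -/
noncomputable def chk8 (t : CT) : ℕ → List ℕ → Bool :=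
  CT.rec (fun _ _ => false)
    (fun p k w => band (Nat.beq k 1) (band (okw w) (band (Nat.blt p 1408)
      (band (neB (tr w (tr w (tr w (tr w p)))) (tr [0, 0] p))
        (neB (tr w (tr w (tr w (tr w (tr w (tr w (tr w (tr w p)))))))) (tr [0, 0] p))))))
    (fun _ c k w => band (Nat.beq k 1) (eqw (w ++ dec c) (dec c ++ wE)))
    (fun _ _ hl hr k w => Nat.rec (motive := fun _ => Bool) false
      (fun k' _ => band (Nat.blt 0 k') (band (hl k' w) (hr k' (sw k' ++ w)))) k) t

theorem chk8_b {l r : CT} {k : ℕ} {w : List ℕ} (h : chk8 (.b l r) k w = true) :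
    ∃ k', k = k' + 1 ∧ 0 < k' ∧ chk8 l k' w = true ∧ chk8 r k' (sw k' ++ w) = true := by
  match k with
  | 0 => exact absurd h (by simp [chk8])
  | k' + 1 =>
    have h' : band (Nat.blt 0 k') (band (chk8 l k' w) (chk8 r k' (sw k' ++ w))) = true := h
    rw [band_eq_true, band_eq_true] at h'
    exact ⟨k', rfl, Nat.blt_eq ▸ h'.1, h'.2⟩

/-- the element of order 8 -/
def E : H0 := hw wE

/-- the conclusion for the elements at a leaf -/
def Inv8 (g : H0) : Prop :=
  (g ^ 4 ≠ τ ∧ g ^ 8 ≠ τ) ∨ ∃ c, c⁻¹ * g * c = E ∨ c⁻¹ * g * c = E * τ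

theorem τ_central_pow (g : H0) {n : ℕ} (hn : Even n) : (τ * g) ^ n = g ^ n := by
  obtain ⟨m, rfl⟩ := hn
  rw [(show Commute τ g from (τ_comm g).symm).mul_pow, ← two_mul, pow_mul τ, τ_sq, one_pow, one_mul]

theorem Inv8.mul_τ {g : H0} (h : Inv8 g) : Inv8 (τ * g) := by
  rcases h with ⟨h1, h2⟩ | ⟨c, h2 | h2⟩
  · left
    rw [τ_central_pow g (by decide), τ_central_pow g (by decide)]
    exact ⟨h1, h2⟩
  · right
    refine ⟨c, Or.inr ?_⟩
    have : c⁻¹ * (τ * g) * c = (c⁻¹ * g * c) * τ := by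
      rw [← mul_assoc c⁻¹ τ g, τ_comm c⁻¹, mul_assoc τ, mul_assoc τ, τ_comm (c⁻¹ * g * c)]
    rw [this, h2]
  · right
    refine ⟨c, Or.inl ?_⟩
    have : c⁻¹ * (τ * g) * c = (c⁻¹ * g * c) * τ := by
      rw [← mul_assoc c⁻¹ τ g, τ_comm c⁻¹, mul_assoc τ, mul_assoc τ, τ_comm (c⁻¹ * g * c)]
    rw [this, h2, mul_assoc, τ_mul_τ, mul_one]

theorem leaf_P1 {g : H0} (h : Inv8 g) : ∀ u ∈ P 1, Inv8 (u * g) := by
  intro u hu
  rcases mem_P1 hu with rfl | rfl
  · rwa [one_mul]
  · exact h.mul_τ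

theorem tr_cat4 (w : List ℕ) (p : ℕ) : tr (w ++ (w ++ (w ++ w))) p = tr w (tr w (tr w (tr w p))) := by
  rw [tr_append, tr_append, tr_append]

theorem hw_cat4 (w : List ℕ) : hw (w ++ (w ++ (w ++ w))) = hw w ^ 4 := by
  rw [hw_append, hw_append, hw_append]; simp only [pow_succ, pow_zero, one_mul, mul_assoc]

theorem inv_of_chk8 (t : CT) : ∀ (k : ℕ) (w : List ℕ), k ≤ 11 → chk8 t k w = true → ∀ g ∈ P k, Inv8 (g * hw w) := by
  induction t with
  | z =>
    intro k w _ h
    exact absurd h (by simp [chk8])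
  | n p =>
    intro k w _ h
    have h' : band (Nat.beq k 1) (band (okw w) (band (Nat.blt p 1408)
      (band (neB (tr w (tr w (tr w (tr w p)))) (tr [0, 0] p))
        (neB (tr w (tr w (tr w (tr w (tr w (tr w (tr w (tr w p)))))))) (tr [0, 0] p))))) = true := h
    rw [band_eq_true, band_eq_true, band_eq_true, band_eq_true, neB_iff, neB_iff] at h'
    obtain ⟨h1, h2, h3, h4, h5⟩ := h'
    have hk : k = 1 := Nat.eq_of_beq_eq_true h1
    have hp : p < 1408 := Nat.blt_eq ▸ h3
    subst hk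
    apply leaf_P1
    left
    have ok4 : okw (w ++ (w ++ (w ++ w))) = true := okw_append h2 (okw_append h2 (okw_append h2 h2))
    constructor
    · rw [← hw_cat4, ← hw_τ]
      exact hw_ne ok4 rfl hp (by rw [tr_cat4]; exact h4)
    · rw [show 8 = 4 * 2 from rfl, pow_mul, ← hw_cat4, pow_two, ← hw_append, ← hw_τ]
      exact hw_ne (okw_append ok4 ok4) rfl hp (by rw [tr_append, tr_cat4, tr_cat4]; exact h5)
  | i r c =>
    intro k w _ h
    have h' : band (Nat.beq k 1) (eqw (w ++ dec c) (dec c ++ wE)) = true := h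
    rw [band_eq_true] at h'
    have hk : k = 1 := Nat.eq_of_beq_eq_true h'.1
    subst hk
    apply leaf_P1
    right
    refine ⟨hw (dec c), Or.inl ?_⟩
    have h2 := hw_eq h'.2
    rw [hw_append, hw_append] at h2
    rw [mul_assoc, h2, inv_mul_cancel_left]
    rfl
  | b l r hl hr =>
    intro k w hk h g hg
    obtain ⟨k', rfl, hk', h1, h2⟩ := chk8_b h
    rcases (step (show k' < 11 by omega)).mem hg with h3 | h3
    · exact hl k' w (by omega) h1 g h3
    · have h4 := hr k' (sw k' ++ w) (by omega) h2 _ h3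
      rw [hw_append] at h4
      have h5 : g * (s k')⁻¹ * (hw (sw k') * hw w) = g * hw w := by
        change g * (s k')⁻¹ * (s k' * hw w) = g * hw w
        group
      rwa [h5] at h4

theorem chk_T : chk8 T 11 [] = true := by decide +kernel

/-- every element of `S` -/
theorem inv8_S {g : H0} (hg : g ∈ S) : Inv8 g := by
  have h := inv_of_chk8 T 11 [] le_rfl chk_T g hg
  rwa [hw_nil, mul_one] at h

theorem E_sq : E ^ 2 = hw wY := by
  rw [pow_two, E, ← hw_append]; rfl

theorem E_four : E ^ 4 = τ := by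
  rw [E, ← hw_cat4, ← hw_τ]
  exact hw_eq (by decide +kernel)

theorem Y_sq : (hw wY) ^ 2 = τ := by rw [← E_sq, ← pow_mul]; exact E_four

theorem conj_Eτ : IsConj E (E * τ) := by
  rw [isConj_iff]
  refine ⟨hw w5, ?_⟩
  have h : hw ((wE ++ [0, 0]) ++ w5) = hw (w5 ++ wE) := hw_eq (by decide +kernel)
  rw [hw_append, hw_append, hw_append, hw_τ] at h
  rw [E, ← h, mul_inv_cancel_right]

theorem conj_pow_τ {g c : H0} {n : ℕ} (h : g ^ n = τ) : (c⁻¹ * g * c) ^ n = τ := by
  have h2 : c⁻¹ * g * c = c⁻¹ * g * (c⁻¹)⁻¹ := by rw [inv_inv]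
  rw [h2, conj_pow, h, inv_inv, τ_comm, mul_assoc, inv_mul_cancel, mul_one]

/-- **4th roots of `τ`** -/
theorem conj_E {g : H0} (hg : g ^ 4 = τ) : IsConj E g := by
  have h8 : g ^ 2 ^ 3 = 1 := by
    rw [show 2 ^ 3 = 4 * 2 from rfl, pow_mul, hg, τ_sq]
  obtain ⟨c, hc⟩ := exists_conj_mem_S h8
  have h1 : (c⁻¹ * g * c) ^ 4 = τ := conj_pow_τ hg
  rcases inv8_S hc with ⟨h2, -⟩ | ⟨d, h2⟩
  · exact absurd h1 h2
  · have h3 : d⁻¹ * (c⁻¹ * g * c) * d = (c * d)⁻¹ * g * (c * d) := by group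
    rw [h3] at h2
    have h4 : IsConj ((c * d)⁻¹ * g * (c * d)) g := isConj_iff.2 ⟨c * d, by group⟩
    rcases h2 with h2 | h2
    · rw [h2] at h4; exact h4
    · rw [h2] at h4; exact conj_Eτ.trans h4

/-- **no element of order 16 above `τ`** -/
theorem ne_sixteen (g : H0) : g ^ 8 ≠ τ := by
  intro hg
  have h8 : g ^ 2 ^ 4 = 1 := by
    rw [show 2 ^ 4 = 8 * 2 from rfl, pow_mul, hg, τ_sq]
  obtain ⟨c, hc⟩ := exists_conj_mem_S h8
  have h1 : (c⁻¹ * g * c) ^ 8 = τ := conj_pow_τ hg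
  have hE : E ^ 8 = 1 := by rw [show 8 = 4 * 2 from rfl, pow_mul, E_four, τ_sq]
  rcases inv8_S hc with ⟨-, h2⟩ | ⟨d, h2⟩
  · exact h2 h1
  · have h3 : (d⁻¹ * (c⁻¹ * g * c) * d) ^ 8 = τ := conj_pow_τ h1
    rcases h2 with h2 | h2
    · rw [h2, hE] at h3; exact τ_ne_one h3.symm
    · rw [h2, τ_comm E, τ_central_pow _ (by decide), hE] at h3; exact τ_ne_one h3.symm

/-! ### orders of centralizers -/

theorem card_conj {G : Type*} [Group G] {x y : G} (h : IsConj x y) :
    Nat.card (Subgroup.centralizer ({x} : Set G)) = Nat.card (Subgroup.centralizer ({y} : Set G)) := by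
  obtain ⟨c, rfl⟩ := isConj_iff.1 h
  exact (Cfsg.Agent.H513.HNH0.card_cent_conj c x).symm

theorem chk_cy : chkL [wY] [] cy = true := by decide +kernel

theorem card_Y : Nat.card (Subgroup.centralizer ({hw wY} : Set H0)) = 5760 := by
  apply le_antisymm
  · rw [← card_conj (isConj_of_sq_eq_τ Y_sq)]
    exact Cfsg.Agent.H789.Ore.HNgx.card_gx
  · have h := prod_le chk_cy
    rw [Sub_single] at h
    exact le_trans (by decide +kernel) h

/-- `|C(y)| = 5760` for `y ^ 2 = τ` -/
theorem card_of_sq {y : H0} (hy : y ^ 2 = τ) : Nat.card (Subgroup.centralizer ({y} : Set H0)) = 5760 := by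
  rw [← card_conj (isConj_of_sq_eq_τ hy), card_conj (isConj_of_sq_eq_τ Y_sq), card_Y]

theorem chk_ce : chkL [wE] [] ce = true := by decide +kernel

theorem rts_ok : (rts.all fun r => eqw (r ++ r) wY) = true := by decide +kernel

theorem rts_len : rts.length = 72 := by decide +kernel

/-- key -/
def key (w : List ℕ) : ℕ :=
  Nat.add (tr w 0) (Nat.mul 2048 (Nat.add (tr w 17) (Nat.mul 2048 (Nat.add (tr w 221) (Nat.mul 2048 (tr w 8))))))

theorem key_eq {a b : List ℕ} (ha : okw a = true) (hb : okw b = true) (h : hw a = hw b) : key a = key b := by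
  have h1 : ∀ p, p < 1408 → tr a p = tr b p := by
    intro p hp
    by_contra hne
    exact hw_ne ha hb hp hne h
  unfold key
  rw [h1 0 (by norm_num), h1 17 (by norm_num), h1 221 (by norm_num), h1 8 (by norm_num)]

theorem rts_nd : ndB (rts.map key) = true := by decide +kernel
theorem rts_okw : (rts.all okw) = true := by decide +kernel

theorem card_E : Nat.card (Subgroup.centralizer ({E} : Set H0)) = 80 := by
  have hfin := finite_H0
  apply le_antisymm
  · have h1 : ∀ i : Fin rts.length, ∃ c : Subgroup.centralizer ({hw wY} : Set H0),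
        (c : H0) * E * (c : H0)⁻¹ = hw (rts.get i) := by
      intro i
      have h2 := hw_eq (List.all_eq_true.1 rts_ok _ (List.get_mem rts i))
      rw [hw_append, ← pow_two] at h2
      have h3 : hw (rts.get i) ^ 4 = τ := by rw [show 4 = 2 * 2 from rfl, pow_mul, h2, Y_sq]
      obtain ⟨c, hc⟩ := isConj_iff.1 (conj_E h3)
      refine ⟨⟨c, ?_⟩, hc⟩
      rw [Subgroup.mem_centralizer_singleton_iff]
      have h4 : c * hw wY * c⁻¹ = hw wY := by
        rw [← E_sq, ← conj_pow, hc, h2, E_sq]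
      rw [mul_inv_eq_iff_eq_mul] at h4
      exact h4
    choose f hf using h1
    have h2 := card_mul_le (D := Subgroup.centralizer ({hw wY} : Set H0)) (e := E) f (by
      intro i j hij
      have hij' : (f i : H0) * E * (f i : H0)⁻¹ = (f j : H0) * E * (f j : H0)⁻¹ := hij
      rw [hf, hf] at hij'
      have h3 := key_eq (List.all_eq_true.1 rts_okw _ (List.get_mem rts i))
        (List.all_eq_true.1 rts_okw _ (List.get_mem rts j)) hij'
      have hinj := List.nodup_iff_injective_get.1 (ndB_spec rts_nd)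
      have hlen : (rts.map key).length = rts.length := List.length_map _
      have h11 : (Fin.cast hlen.symm i) = (Fin.cast hlen.symm j) := by
        apply hinj
        simpa using h3
      simpa [Fin.ext_iff] using h11)
    have h5 : Subgroup.centralizer ({hw wY} : Set H0) ⊓ Subgroup.centralizer ({E} : Set H0) =
        Subgroup.centralizer ({E} : Set H0) := by
      refine inf_eq_right.2 fun v hv => Subgroup.mem_centralizer_singleton_iff.2 ?_
      rw [← E_sq]
      exact Commute.pow_right (Subgroup.mem_centralizer_singleton_iff.1 hv) 2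
    rw [h5, rts_len, card_Y] at h2
    omega
  · have h := prod_le chk_ce
    rw [Sub_single] at h
    exact le_trans (by decide +kernel) h

/-- `|C(g)| = 80` for `g ^ 4 = τ` -/
theorem card_of_four {g : H0} (hg : g ^ 4 = τ) : Nat.card (Subgroup.centralizer ({g} : Set H0)) = 80 := by
  rw [← card_conj (conj_E hg), card_E]

/-! ### elements of order 3 -/

open scoped Pointwise in
/-- a 3-element with cube 1 is conjugate into a given subgroup of order 9, if 9 is the full power -/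
theorem exists_conj_nine {G : Type*} [Group G] [Finite G] {R : Subgroup G} (hR : Nat.card R = 9)
    (h9 : (Nat.card G).factorization 3 = 2) {g : G} (hg : g ^ 3 = 1) (h1 : g ≠ 1) : ∃ c : G, c⁻¹ * g * c ∈ R := by
  have : Fact (Nat.Prime 3) := ⟨Nat.prime_three⟩
  let Q : Sylow 3 G := Sylow.ofCard R (by rw [hR, h9]; norm_num)
  have h2 : IsPGroup 3 (Subgroup.zpowers g) := by
    apply IsPGroup.of_card (n := 1)
    rw [Nat.card_zpowers, pow_one]
    exact orderOf_eq_prime hg h1
  obtain ⟨R', hR'⟩ := h2.exists_le_sylow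
  obtain ⟨c, hc⟩ := MulAction.exists_smul_eq G Q R'
  have h3 : g ∈ ((c • Q : Sylow 3 G) : Subgroup G) := by
    rw [hc]
    exact hR' (Subgroup.mem_zpowers g)
  refine ⟨c, ?_⟩
  rw [Sylow.coe_subgroup_smul, Subgroup.mem_pointwise_smul_iff_inv_smul_mem] at h3
  have h5 : (MulAut.conj c)⁻¹ • g = c⁻¹ * g * c := by
    rw [MulAut.smul_def, MulAut.conj_inv_apply]
  rw [h5] at h3
  exact h3

theorem cj3_ok : ∀ e < 8, eqw (Cfsg.Agent.HN.FactB.wij (e + 1) ++ cj3.getD e []) (cj3.getD e [] ++ [2, 2]) = true := by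
  decide +kernel

/-- **one class of elements of order 3** -/
theorem conj_three {g : H0} (hg : g ^ 3 = 1) (h1 : g ≠ 1) : IsConj (hw [2, 2]) g := by
  have hfin := finite_H0
  obtain ⟨c, hc⟩ := exists_conj_nine Cfsg.Agent.HN.FactB.card_S3 Cfsg.Agent.HN.FactB.factorization_three hg h1
  obtain ⟨e, he, h5⟩ := Cfsg.Agent.HN.FactB.mem_S3 hc
  have h0 : e ≠ 0 := by
    rintro rfl
    rw [Cfsg.Agent.HN.FactB.hw_wij, show 0 / 3 = 0 from rfl, show 0 % 3 = 0 from rfl, pow_zero, pow_zero,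
      mul_one] at h5
    apply h1
    have : g = c * (c⁻¹ * g * c) * c⁻¹ := by group
    rw [this, h5, mul_one, mul_inv_cancel]
  obtain ⟨e, rfl⟩ : ∃ e', e = e' + 1 := ⟨e - 1, by omega⟩
  have h6 := hw_eq (cj3_ok e (by omega))
  rw [hw_append, hw_append, ← h5] at h6
  rw [isConj_iff]
  refine ⟨c * hw (cj3.getD e []), ?_⟩
  rw [mul_inv_rev]
  calc c * hw (cj3.getD e []) * hw [2, 2] * ((hw (cj3.getD e []))⁻¹ * c⁻¹)
      = c * (hw (cj3.getD e []) * hw [2, 2]) * (hw (cj3.getD e []))⁻¹ * c⁻¹ := by group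
    _ = g := by rw [← h6]; group

theorem chk_cs : chkL [[2, 2]] [] cs = true := by decide +kernel

end Cfsg.Agent.H981.M23.HNTwoA
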