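import Cfsg.Agent.HN.Syl

/-!
# Orders of centralizers in `H0 = 2.HS.2` (helper981, facts for (M,23))

* `prod_le` : lower bound for the order of the centralizer of some words, from a stabilizer chain on the 1408 points
  (certificate `chkL`);
* `card_mul_le` : upper bound from distinct conjugates;
* `inv_of_chk` : tree certificate over the Sylow 2-subgroup `S` for the elements with `g ^ 4 = τ`.
-/

set_option autoImplicit false

namespace Cfsg.Agent.H981.M23.Lev

open Cfsg.Agent.HN.Pres Cfsg.Agent.HN.P1408 Cfsg.Agent.HN.H0Basic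
open Cfsg.Agent.SporadicA.PermTab Equiv

/-- stabilizer of a point -/
def St (p : ℕ) : Subgroup H0 where
  carrier := {g | ∀ q : Fin 1408, (q : ℕ) = p → ψ g q = q}
  one_mem' := fun q _ => by rw [map_one, Perm.one_apply]
  mul_mem' := by
    intro a b ha hb q hq
    rw [map_mul, Perm.mul_apply, hb q hq, ha q hq]
  inv_mem' := by
    intro a ha q hq
    rw [map_inv, Perm.inv_eq_iff_eq]
    exact (ha q hq).symm

theorem mem_St_of_tr {a : List ℕ} (ha : okw a = true) {p : ℕ} (h : tr a p = p) : hw a ∈ St p := by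
  intro q hq
  have h1 : (ψ (hw a))⁻¹ q = q := Fin.ext (by rw [ψ_hw_inv_apply ha, hq, h])
  rw [Perm.inv_eq_iff_eq] at h1
  exact h1.symm

theorem img_eq {p : ℕ} (hp : p < 1408) {u : H0} (hu : u ∈ St p) {w : List ℕ} (hw' : okw w = true) :
    (((ψ (u * hw w))⁻¹ (⟨p, hp⟩ : Fin 1408) : Fin 1408) : ℕ) = tr w p := by
  have h1 : (ψ u)⁻¹ (⟨p, hp⟩ : Fin 1408) = ⟨p, hp⟩ := by
    rw [Perm.inv_eq_iff_eq]
    exact (hu ⟨p, hp⟩ rfl).symm
  rw [map_mul, mul_inv_rev, Perm.mul_apply, h1, ψ_hw_inv_apply hw']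

theorem card_ge (C : Subgroup H0) {p : ℕ} (hp : p < 1408) (W : List (List ℕ))
    (hW : ∀ w ∈ W, okw w = true ∧ hw w ∈ C) (hn : (W.map (fun w => tr w p)).Nodup) :
    W.length * Nat.card ↥(C ⊓ St p) ≤ Nat.card C := by
  have hfin := finite_H0
  have h1 : Nat.card (Fin W.length × ↥(C ⊓ St p)) = W.length * Nat.card ↥(C ⊓ St p) := by
    rw [Nat.card_prod, Nat.card_eq_fintype_card (α := Fin W.length), Fintype.card_fin]
  rw [← h1]
  refine Nat.card_le_card_of_injective
    (fun x => (⟨(x.2 : H0) * hw (W.get x.1), C.mul_mem x.2.2.1 (hW _ (List.get_mem W x.1)).2⟩ : C)) ?_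
  rintro ⟨i, u⟩ ⟨j, v⟩ h
  have h' : (u : H0) * hw (W.get i) = (v : H0) * hw (W.get j) := congrArg Subtype.val h
  have e1 := img_eq hp u.2.2 (hW _ (List.get_mem W i)).1
  have e2 := img_eq hp v.2.2 (hW _ (List.get_mem W j)).1
  rw [h', e2] at e1
  have e3 : i = j := by
    have hinj := List.nodup_iff_injective_get.1 hn
    have hlen : (W.map fun w => tr w p).length = W.length := List.length_map _
    have h11 : (Fin.cast hlen.symm i) = (Fin.cast hlen.symm j) := by
      apply hinj
      simpa using e1.symm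
    simpa [Fin.ext_iff] using h11
  subst e3
  rw [Subtype.ext (mul_right_cancel h')]

/-- the centralizer of some words, fixing some points -/
def Sub (cs : List (List ℕ)) (ps : List ℕ) : Subgroup H0 where
  carrier := {g | (∀ c ∈ cs, g * hw c = hw c * g) ∧ ∀ p ∈ ps, g ∈ St p}
  one_mem' := ⟨fun c _ => by rw [one_mul, mul_one], fun p _ => one_mem _⟩
  mul_mem' := by
    rintro a b ⟨ha, ha'⟩ ⟨hb, hb'⟩
    refine ⟨fun c hc => ?_, fun p hp => mul_mem (ha' p hp) (hb' p hp)⟩
    rw [mul_assoc, hb c hc, ← mul_assoc, ha c hc, mul_assoc]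
  inv_mem' := by
    rintro a ⟨ha, ha'⟩
    refine ⟨fun c hc => ?_, fun p hp => inv_mem (ha' p hp)⟩
    rw [inv_mul_eq_iff_eq_mul, ← mul_assoc, ha c hc, mul_assoc, mul_inv_cancel, mul_one]

theorem Sub_inf (cs : List (List ℕ)) (ps : List ℕ) (p : ℕ) : Sub cs ps ⊓ St p = Sub cs (p :: ps) := by
  ext g
  constructor
  · rintro ⟨⟨h1, h2⟩, h3⟩
    refine ⟨h1, fun q hq => ?_⟩
    rcases List.mem_cons.1 hq with rfl | hq
    · exact h3
    · exact h2 q hq
  · rintro ⟨h1, h2⟩
    exact ⟨⟨h1, fun q hq => h2 q (List.mem_cons_of_mem _ hq)⟩, h2 p List.mem_cons_self⟩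

/-- words of a level -/
def levB (cs : List (List ℕ)) (ps : List ℕ) (W : List (List ℕ)) : Bool :=
  W.all fun w => okw w && (cs.all (fun c => eqw (w ++ c) (c ++ w)) && ps.all (fun q => Nat.beq (tr w q) q))

theorem levB_spec {cs : List (List ℕ)} {ps : List ℕ} {W : List (List ℕ)} (h : levB cs ps W = true) :
    ∀ w ∈ W, okw w = true ∧ hw w ∈ Sub cs ps := by
  intro w hw'
  have h1 := List.all_eq_true.1 h w hw'
  simp only [Bool.and_eq_true, List.all_eq_true] at h1
  obtain ⟨h1, h2, h3⟩ := h1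
  refine ⟨h1, fun c hc => ?_, fun p hp => mem_St_of_tr h1 (Nat.eq_of_beq_eq_true (h3 p hp))⟩
  have h4 := hw_eq (h2 c hc)
  rwa [hw_append, hw_append] at h4

/-- no repetition -/
def ndB : List ℕ → Bool
  | [] => true
  | a :: l => l.all (fun b => !(Nat.beq a b)) && ndB l

theorem ndB_spec : ∀ {l : List ℕ}, ndB l = true → l.Nodup
  | [], _ => List.nodup_nil
  | a :: l, h => by
    have h' : (l.all (fun b => !(Nat.beq a b)) && ndB l) = true := h
    rw [Bool.and_eq_true, List.all_eq_true] at h'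
    rw [List.nodup_cons]
    refine ⟨fun hm => ?_, ndB_spec h'.2⟩
    have h2 := h'.1 a hm
    rw [show Nat.beq a a = true from Nat.beq_refl a] at h2
    exact absurd h2 (by simp)

/-- a chain of levels -/
def chkL (cs : List (List ℕ)) : List ℕ → List (ℕ × List (List ℕ)) → Bool
  | _, [] => true
  | ps, (p, W) :: l => Nat.blt p 1408 && (levB cs ps W && (ndB (W.map fun w => tr w p) && chkL cs (p :: ps) l))

theorem prod_le {cs : List (List ℕ)} : ∀ {l : List (ℕ × List (List ℕ))} {ps : List ℕ}, chkL cs ps l = true →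
    (l.map fun x => x.2.length).prod ≤ Nat.card (Sub cs ps)
  | [], ps, _ => by
    have hfin := finite_H0
    rw [List.map_nil, List.prod_nil]
    exact Nat.card_pos
  | (p, W) :: l, ps, h => by
    have h' : (Nat.blt p 1408 && (levB cs ps W && (ndB (W.map fun w => tr w p) && chkL cs (p :: ps) l))) = true := h
    simp only [Bool.and_eq_true] at h'
    obtain ⟨h1, h2, h3, h4⟩ := h'
    have h5 := card_ge (Sub cs ps) (Nat.blt_eq ▸ h1 : p < 1408) W (levB_spec h2) (ndB_spec h3)
    rw [Sub_inf] at h5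
    rw [List.map_cons, List.prod_cons]
    exact le_trans (Nat.mul_le_mul_left _ (prod_le h4)) h5

theorem Sub_single (c : List ℕ) : Sub [c] [] = Subgroup.centralizer ({hw c} : Set H0) := by
  ext g
  rw [Subgroup.mem_centralizer_singleton_iff]
  constructor
  · intro h
    exact h.1 c (by simp)
  · intro h
    refine ⟨fun c' hc => ?_, fun p hp => absurd hp (by simp)⟩
    rw [List.mem_singleton.1 hc]
    exact h

theorem Sub_pair (c d : List ℕ) : Sub [c, d] [] = Subgroup.centralizer ({hw c} : Set H0) ⊓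
    Subgroup.centralizer ({hw d} : Set H0) := by
  ext g
  rw [Subgroup.mem_inf, Subgroup.mem_centralizer_singleton_iff, Subgroup.mem_centralizer_singleton_iff]
  constructor
  · intro h
    exact ⟨h.1 c (by simp), h.1 d (by simp)⟩
  · rintro ⟨h, h2⟩
    refine ⟨fun c' hc => ?_, fun p hp => absurd hp (by simp)⟩
    rcases List.mem_cons.1 hc with rfl | hc
    · exact h
    · rw [List.mem_singleton.1 hc]
      exact h2

/-- distinct conjugates of `e` by elements of `D` -/
theorem card_mul_le {G : Type*} [Group G] [Finite G] {D : Subgroup G} {e : G} {n : ℕ} (f : Fin n → D)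
    (hf : Function.Injective fun i => (f i : G) * e * (f i : G)⁻¹) :
    n * Nat.card ↥(D ⊓ Subgroup.centralizer ({e} : Set G)) ≤ Nat.card D := by
  have h1 : Nat.card (Fin n × ↥(D ⊓ Subgroup.centralizer ({e} : Set G))) =
      n * Nat.card ↥(D ⊓ Subgroup.centralizer ({e} : Set G)) := by
    rw [Nat.card_prod, Nat.card_eq_fintype_card (α := Fin n), Fintype.card_fin]
  rw [← h1]
  refine Nat.card_le_card_of_injective (fun x => (⟨(f x.1 : G) * (x.2 : G), D.mul_mem (f x.1).2 x.2.2.1⟩ : D)) ?_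
  rintro ⟨i, u⟩ ⟨j, v⟩ h
  have h' : (f i : G) * (u : G) = (f j : G) * (v : G) := congrArg Subtype.val h
  have key : ∀ (i : Fin n) (u : ↥(D ⊓ Subgroup.centralizer ({e} : Set G))),
      ((f i : G) * (u : G)) * e * ((f i : G) * (u : G))⁻¹ = (f i : G) * e * (f i : G)⁻¹ := by
    intro i u
    have hu := Subgroup.mem_centralizer_singleton_iff.1 u.2.2
    calc ((f i : G) * (u : G)) * e * ((f i : G) * (u : G))⁻¹ = (f i : G) * ((u : G) * e) * (u : G)⁻¹ * (f i : G)⁻¹ := by
          group
      _ = (f i : G) * e * (f i : G)⁻¹ := by rw [hu]; group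
  have h2 : i = j := hf (by
    show (f i : G) * e * (f i : G)⁻¹ = (f j : G) * e * (f j : G)⁻¹
    rw [← key i u, ← key j v, h'])
  subst h2
  rw [Subtype.ext (mul_left_cancel h')]

end Cfsg.Agent.H981.M23.Lev
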